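import Cfsg.Agent.LargeExtra.TwoCentral
import Cfsg.Agent.LieClassical.SympPerfect
import Cfsg.Agent.LieClassical.HermSimple
import Cfsg.Agent.S0245
import Cfsg.Agent.S0246
import Cfsg.Agent.S0280

/-!
# Transvections are 2-central (helper349)

If `Q` is a large extraspecial subgroup of `G` with centre `⟨z⟩` and `G` is `PSp_{2m}(2)` or `PSU_n(2)`, then `z` is
conjugate to a transvection; so the index of `C_G(z)` is at most the number of vectors.
-/

set_option autoImplicit false

namespace Cfsg.Agent.H349.Transv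

open Cfsg
open Cfsg.Agent.Co2Type.Quad (Large)
open scoped Matrix

/-- a 2-group fixing a point of a set of even size fixes another one -/
theorem exists_fixed {P X : Type*} [Group P] [Finite X] (hP : IsPGroup 2 P) (a : P → X → X)
    (h1 : ∀ x, a 1 x = x) (hm : ∀ p q x, a (p * q) x = a p (a q x)) (x0 : X) (h0 : ∀ p, a p x0 = x0)
    (hev : 2 ∣ Nat.card X) : ∃ x, x ≠ x0 ∧ ∀ p, a p x = x := by
  classical
  have : Fact (Nat.Prime 2) := ⟨Nat.prime_two⟩
  letI : MulAction P X := { smul := a, one_smul := h1, mul_smul := hm }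
  have h2 := hP.card_modEq_card_fixedPoints X
  have h3 : 2 ∣ Nat.card (MulAction.fixedPoints P X) := by
    rw [← Nat.modEq_zero_iff_dvd] at hev ⊢
    exact h2.symm.trans hev
  have hx0 : x0 ∈ MulAction.fixedPoints P X := fun p => h0 p
  have h4 : 1 < Nat.card (MulAction.fixedPoints P X) := by
    have : Nonempty (MulAction.fixedPoints P X) := ⟨⟨x0, hx0⟩⟩
    have h5 : 0 < Nat.card (MulAction.fixedPoints P X) := Nat.card_pos
    rcases h3 with ⟨k, hk⟩
    omega
  rw [Finite.one_lt_card_iff_nontrivial] at h4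
  obtain ⟨⟨x, hx⟩, hne⟩ := exists_ne (⟨x0, hx0⟩ : MulAction.fixedPoints P X)
  exact ⟨x, fun h => hne (Subtype.ext h), fun p => hx p⟩

/-- a nontrivial element commuting with a Sylow 2-subgroup is conjugate to `z` -/
theorem conj_of_commute {G : Type*} [Group G] [Finite G] {Q : Subgroup G} {z : G} (hL : Large Q z)
    (S : Sylow 2 G) {t : G} (ht : t ≠ 1) (hc : ∀ s ∈ S, t * s = s * t) : ∃ g : G, g * z * g⁻¹ = t := by
  have : Fact (Nat.Prime 2) := ⟨Nat.prime_two⟩
  obtain ⟨T, hT⟩ := (Cfsg.Agent.LargeExtra.Base.isPGroup hL).exists_le_sylow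
  obtain ⟨g, hg⟩ := MulAction.exists_smul_eq G T S
  have h1 : ∀ y ∈ Q, g * y * g⁻¹ ∈ S := by
    intro y hy
    have h2 : g * y * g⁻¹ ∈ (g • T : Sylow 2 G) := by
      rw [← SetLike.mem_coe, Sylow.coe_smul]
      exact ⟨y, hT hy, rfl⟩
    rwa [hg] at h2
  have h2 : ∀ y ∈ Q, (g⁻¹ * t * g) * y = y * (g⁻¹ * t * g) := by
    intro y hy
    have h3 := hc _ (h1 y hy)
    calc (g⁻¹ * t * g) * y = g⁻¹ * (t * (g * y * g⁻¹)) * g := by group
      _ = g⁻¹ * ((g * y * g⁻¹) * t) * g := by rw [h3]
      _ = y * (g⁻¹ * t * g) := by group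
  rcases LargeExtra.TwoCentral.eq_of_central hL h2 with h | h
  · exfalso
    apply ht
    calc t = g * (g⁻¹ * t * g) * g⁻¹ := by group
      _ = 1 := by rw [h]; group
  · exact ⟨g, by rw [← h]; group⟩

/-- the index of the centralizer of a conjugate -/
theorem index_centralizer_conj {G : Type*} [Group G] (z g : G) :
    (Subgroup.centralizer ({g * z * g⁻¹} : Set G)).index = (Subgroup.centralizer ({z} : Set G)).index := by
  have h1 : Subgroup.centralizer ({g * z * g⁻¹} : Set G) =
      (Subgroup.centralizer ({z} : Set G)).map (MulAut.conj g).toMonoidHom := by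
    ext x
    rw [Subgroup.mem_centralizer_singleton_iff]
    constructor
    · intro hx
      refine ⟨g⁻¹ * x * g, ?_, ?_⟩
      · show g⁻¹ * x * g ∈ Subgroup.centralizer ({z} : Set G)
        rw [Subgroup.mem_centralizer_singleton_iff]
        calc g⁻¹ * x * g * z = g⁻¹ * (x * (g * z * g⁻¹)) * g := by group
          _ = g⁻¹ * ((g * z * g⁻¹) * x) * g := by rw [hx]
          _ = z * (g⁻¹ * x * g) := by group
      · show g * (g⁻¹ * x * g) * g⁻¹ = x
        group
    · rintro ⟨y, hy, rfl⟩
      have hy' := Subgroup.mem_centralizer_singleton_iff.1 hy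
      show g * y * g⁻¹ * (g * z * g⁻¹) = (g * z * g⁻¹) * (g * y * g⁻¹)
      calc g * y * g⁻¹ * (g * z * g⁻¹) = g * (y * z) * g⁻¹ := by group
        _ = g * (z * y) * g⁻¹ := by rw [hy']
        _ = _ := by group
  rw [h1]
  exact Subgroup.index_map_equiv _ (MulAut.conj g)

/-- the number of conjugates of `t` -/
theorem index_le {G X : Type*} [Group G] [Finite X] (t : G) (f : X → G) (h : ∀ g : G, ∃ x, g * t * g⁻¹ = f x) :
    (Subgroup.centralizer ({t} : Set G)).index ≤ Nat.card X := by
  choose x hx using h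
  unfold Subgroup.index
  refine Nat.card_le_card_of_injective (fun c : G ⧸ Subgroup.centralizer ({t} : Set G) => x c.out) ?_
  intro c d hcd
  have h1 : c.out * t * c.out⁻¹ = d.out * t * d.out⁻¹ := by
    rw [hx, hx]
    exact congrArg f hcd
  rw [← QuotientGroup.out_eq' c, ← QuotientGroup.out_eq' d, QuotientGroup.eq, Subgroup.mem_centralizer_singleton_iff]
  calc (c.out)⁻¹ * d.out * t = (c.out)⁻¹ * (d.out * t * (d.out)⁻¹) * d.out := by group
    _ = (c.out)⁻¹ * (c.out * t * (c.out)⁻¹) * d.out := by rw [h1]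
    _ = t * ((c.out)⁻¹ * d.out) := by group

/-- **Bound for the index of `C_G(z)`** -/
theorem bound {G M X : Type*} [Group G] [Finite G] [Group M] [Finite M] [Finite X] {Q : Subgroup G} {z : G}
    (hL : Large Q z) (π : M →* G) (hπ : Function.Surjective π) (f : X → M) (a : M → X → X)
    (hconj : ∀ g x, g * f x * g⁻¹ = f (a g x))
    (hfix : ∀ P : Subgroup M, IsPGroup 2 P → ∃ x, (∀ p ∈ P, a p x = x) ∧ π (f x) ≠ 1) :
    (Subgroup.centralizer ({z} : Set G)).index ≤ Nat.card X := by
  classical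
  have : Fact (Nat.Prime 2) := ⟨Nat.prime_two⟩
  obtain ⟨P⟩ : Nonempty (Sylow 2 M) := inferInstance
  obtain ⟨x, hx, hx1⟩ := hfix P P.2
  obtain ⟨g, hg⟩ := conj_of_commute hL (P.mapSurjective hπ) hx1 (by
    intro s hs
    obtain ⟨p, hp, rfl⟩ := hs
    have h1 := hconj p x
    rw [hx p hp] at h1
    have h2 : p * f x = f x * p := mul_inv_eq_iff_eq_mul.1 h1
    rw [← map_mul, ← map_mul, h2])
  rw [← index_centralizer_conj z g, hg]
  refine index_le (π (f x)) (fun y => π (f y)) fun b => ?_
  obtain ⟨m, rfl⟩ := hπ b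
  exact ⟨a m x, by rw [← hconj, map_mul, map_mul, map_inv]⟩

/-! ### symplectic groups -/

theorem sp {G : Type*} [Group G] [Finite G] {Q : Subgroup G} {z : G} (hL : Large Q z) {F : Type*} [Field F]
    [Fintype F] (hF : Fintype.card F = 2) {m : ℕ} (hm : 1 ≤ m) (e : G ≃* PSp m F) :
    (Subgroup.centralizer ({z} : Set G)).index ≤ 2 ^ (m + m) := by
  classical
  have hcard : Nat.card (Fin m ⊕ Fin m → F) = 2 ^ (m + m) := by
    rw [Nat.card_eq_fintype_card, Fintype.card_fun, hF, Fintype.card_sum, Fintype.card_fin]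
  rw [← hcard]
  have hcen : Subgroup.center (Matrix.symplecticGroup (Fin m) F) = ⊥ := by
    have h1 := S0246.result hF m hm
    rw [show Nat.gcd 2 (2 - 1) = 1 by norm_num] at h1
    exact Subgroup.eq_bot_of_card_eq _ h1
  have hfin : Finite (Matrix.symplecticGroup (Fin m) F) := Subtype.finite
  refine bound hL (e.symm.toMonoidHom.comp (QuotientGroup.mk' _))
    (e.symm.surjective.comp (QuotientGroup.mk'_surjective _))
    (fun v => ClassicalGeometry.SympBasic.transv v (1 : F))
    (fun A v => (A : Matrix (Fin m ⊕ Fin m) (Fin m ⊕ Fin m) F) *ᵥ v)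
    (fun A v => LieClassical.SympPerfect.conj_transv A v 1) ?_
  intro P hP
  obtain ⟨v, hv, hvP⟩ := exists_fixed hP
    (fun (p : P) (v : Fin m ⊕ Fin m → F) =>
      ((p : Matrix.symplecticGroup (Fin m) F) : Matrix (Fin m ⊕ Fin m) (Fin m ⊕ Fin m) F) *ᵥ v)
    (fun x => by
      show ((1 : Matrix.symplecticGroup (Fin m) F) : Matrix (Fin m ⊕ Fin m) (Fin m ⊕ Fin m) F) *ᵥ x = x
      rw [OneMemClass.coe_one, Matrix.one_mulVec])
    (fun p q x => by
      show (((p : Matrix.symplecticGroup (Fin m) F) * (q : Matrix.symplecticGroup (Fin m) F) :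
        Matrix.symplecticGroup (Fin m) F) : Matrix (Fin m ⊕ Fin m) (Fin m ⊕ Fin m) F) *ᵥ x = _
      rw [Submonoid.coe_mul, Matrix.mulVec_mulVec]) 0 (fun p => Matrix.mulVec_zero _)
    (by rw [hcard]; exact dvd_pow_self 2 (by omega))
  refine ⟨v, fun p hp => hvP ⟨p, hp⟩, ?_⟩
  intro h1
  have h2 : (QuotientGroup.mk' (Subgroup.center (Matrix.symplecticGroup (Fin m) F)))
      (ClassicalGeometry.SympBasic.transv v (1 : F)) = 1 := by
    apply e.symm.injective
    rw [map_one]
    exact h1
  have h3 := (QuotientGroup.eq_one_iff _).1 h2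
  rw [hcen, Subgroup.mem_bot] at h3
  apply hv
  apply ClassicalGeometry.SympBasic.eq_zero_of_forall_sympForm_left
  intro x
  have h4 := congrArg (fun A : Matrix.symplecticGroup (Fin m) F =>
    (A : Matrix (Fin m ⊕ Fin m) (Fin m ⊕ Fin m) F) *ᵥ x) h3
  simp only [ClassicalGeometry.SympBasic.coe_transv, OneMemClass.coe_one, Matrix.one_mulVec,
    ClassicalGeometry.SympBasic.sympTransvection_mulVec] at h4
  have h5 := add_eq_left.1 h4
  rw [one_mul] at h5
  exact (smul_eq_zero.1 h5).resolve_right hv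

/-! ### unitary groups -/

section

variable {F : Type*} [Field F] [Fintype F] {n : ℕ}

open Cfsg.Agent.LieClassical.HermBasic Cfsg.Agent.LieClassical.HermSiegel

theorem two_eq (hF : Fintype.card F = 2 ^ 2) : (2 : F) = 0 := by
  have : ((2 ^ 2 : ℕ) : F) = 0 := by rw [← hF]; exact FiniteField.cast_card_eq_zero F
  have h4 : (2 : F) * 2 = 0 := by
    rw [← this]; norm_num
  rcases mul_eq_zero.1 h4 with h | h <;> exact h

omit [Fintype F] in
theorem one_of_ne {c : F} (hc : c ^ 2 = c) (h0 : c ≠ 0) : c = 1 := by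
  have h1 : c * (c - 1) = 0 := by rw [mul_sub, mul_one, ← sq, hc, sub_self]
  exact sub_eq_zero.1 ((mul_eq_zero.1 h1).resolve_left h0)

theorem isSiegel (hF : Fintype.card F = 2 ^ 2) {u : Fin n → F} (hu : hermForm n F 2 u u = 0) :
    IsSiegel 2 u 0 (1 : F) where
  iso := hu
  orth := herm_zero_left u
  tr := by
    rw [herm_zero_left, one_pow, add_zero, one_add_one_eq_two]
    exact two_eq hF

/-- a 2-subgroup fixes a nonzero isotropic vector -/
theorem exists_iso (hF : Fintype.card F = 2 ^ 2) (hn : 2 ≤ n) (P : Subgroup (SU n F 2)) (hP : IsPGroup 2 P) :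
    ∃ u : Fin n → F, u ≠ 0 ∧ hermForm n F 2 u u = 0 ∧ ∀ p ∈ P, act p u = u := by
  classical
  obtain ⟨v, hv, hvP⟩ := exists_fixed hP (fun (p : P) (v : Fin n → F) => act (p : SU n F 2) v)
    (fun x => act_one x) (fun p q x => act_mul _ _ _) 0 (fun p => act_zero _)
    (by
      rw [Nat.card_eq_fintype_card, Fintype.card_fun, hF, Fintype.card_fin, ← pow_mul]
      exact dvd_pow_self 2 (by omega))
  by_cases hvv : hermForm n F 2 v v = 0
  · exact ⟨v, hv, hvv, fun p hp => hvP ⟨p, hp⟩⟩
  have hvv1 : hermForm n F 2 v v = 1 := one_of_ne (herm_self_pow hF v) hvv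
  -- the orthogonal complement of `v`
  let φ : (Fin n → F) →ₗ[F] F :=
    { toFun := fun x => hermForm n F 2 x v
      map_add' := fun x y => herm_add_left x y v
      map_smul' := fun c x => herm_smul_left c x v }
  have hker : 2 ∣ Nat.card (LinearMap.ker φ) := by
    have h1 := LinearMap.finrank_range_add_finrank_ker φ
    rw [Module.finrank_fintype_fun_eq_card, Fintype.card_fin] at h1
    have h2 : Module.finrank F (LinearMap.range φ) ≤ 1 := by
      have := Submodule.finrank_le (LinearMap.range φ)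
      rwa [Module.finrank_self] at this
    rw [Module.natCard_eq_pow_finrank (K := F), Nat.card_eq_fintype_card (α := F), hF, ← pow_mul]
    exact dvd_pow_self 2 (by omega)
  obtain ⟨w, hw, hwP⟩ := exists_fixed hP
    (fun (p : P) (x : LinearMap.ker φ) => (⟨act (p : SU n F 2) x, by
      rw [LinearMap.mem_ker]
      show hermForm n F 2 (act (p : SU n F 2) x) v = 0
      have h1 : hermForm n F 2 (x : Fin n → F) v = 0 := LinearMap.mem_ker.1 x.2
      rw [← h1, ← herm_act (p : SU n F 2) x v, hvP p]⟩ : LinearMap.ker φ))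
    (fun x => Subtype.ext (act_one _)) (fun p q x => Subtype.ext (act_mul _ _ _)) 0
    (fun p => Subtype.ext (act_zero _)) hker
  have hw0 : (w : Fin n → F) ≠ 0 := fun h => hw (Subtype.ext h)
  have hwv : hermForm n F 2 (w : Fin n → F) v = 0 := LinearMap.mem_ker.1 w.2
  have hwP' : ∀ p ∈ P, act p (w : Fin n → F) = w := fun p hp => congrArg Subtype.val (hwP ⟨p, hp⟩)
  by_cases hww : hermForm n F 2 (w : Fin n → F) w = 0
  · exact ⟨w, hw0, hww, hwP'⟩
  have hww1 : hermForm n F 2 (w : Fin n → F) w = 1 := one_of_ne (herm_self_pow hF _) hww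
  refine ⟨w + v, ?_, ?_, ?_⟩
  · intro h
    have h1 : (w : Fin n → F) = -v := eq_neg_of_add_eq_zero_left h
    rw [h1, herm_neg_left, hvv1] at hwv
    exact one_ne_zero (neg_eq_zero.1 hwv)
  · rw [herm_add_left, herm_add_right hF, herm_add_right hF, hwv, herm_eq_zero_swap hF hwv, hww1, hvv1, add_zero,
      zero_add, one_add_one_eq_two]
    exact two_eq hF
  · intro p hp
    rw [act_add, hwP' p hp, hvP ⟨p, hp⟩]

theorem su {G : Type*} [Group G] [Finite G] {Q : Subgroup G} {z : G} (hL : Large Q z)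
    (hF : Fintype.card F = 2 ^ 2) (hn : 3 ≤ n) (e : G ≃* PSU n F 2) :
    (Subgroup.centralizer ({z} : Set G)).index ≤ 4 ^ n := by
  classical
  have hcard : Nat.card (Fin n → F) = 4 ^ n := by
    rw [Nat.card_eq_fintype_card, Fintype.card_fun, hF, Fintype.card_fin]
    norm_num
  have hle : Nat.card {u : Fin n → F // hermForm n F 2 u u = 0} ≤ 4 ^ n := by
    rw [← hcard]
    exact Nat.card_le_card_of_injective _ Subtype.val_injective
  refine le_trans ?_ hle
  have hfin : Finite (SU n F 2) := Subtype.finite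
  refine bound hL (e.symm.toMonoidHom.comp (QuotientGroup.mk' _))
    (e.symm.surjective.comp (QuotientGroup.mk'_surjective _))
    (fun u : {u : Fin n → F // hermForm n F 2 u u = 0} => siegel hF (u : Fin n → F) 0 (1 : F) (isSiegel hF u.2))
    (fun g u => ⟨act g u, by rw [herm_act]; exact u.2⟩)
    (fun g u => by
      rw [conj_siegel]
      exact siegel_congr hF _ _ rfl (act_zero g) rfl) ?_
  intro P hP
  obtain ⟨u, hu0, hu, huP⟩ := exists_iso hF (by omega) P hP
  refine ⟨⟨u, hu⟩, fun p hp => Subtype.ext (huP p hp), ?_⟩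
  intro h1
  have h2 : (QuotientGroup.mk' (Subgroup.center (SU n F 2))) (siegel hF u 0 (1 : F) (isSiegel hF hu)) = 1 := by
    apply e.symm.injective
    rw [map_one]
    exact h1
  have h3 := (QuotientGroup.eq_one_iff _).1 h2
  rw [LieClassical.SUBasic.mem_center_SU_iff hF hn] at h3
  obtain ⟨c, hc1, hc2, hA⟩ := h3
  have hact : ∀ x, act (siegel hF u 0 (1 : F) (isSiegel hF hu)) x = c • x := by
    intro x
    rw [hA, act_def]
    show (Matrix.diagonal (fun _ => c)) *ᵥ x = c • x
    funext i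
    rw [Matrix.mulVec_diagonal]
    rfl
  have hc : c = 1 := by
    have h4 := hact u
    rw [act_siegel_self] at h4
    have h5 : (1 - c) • u = 0 := by rw [sub_smul, one_smul, ← h4, sub_self]
    exact (sub_eq_zero.1 ((smul_eq_zero.1 h5).resolve_right hu0)).symm
  obtain ⟨x, hx⟩ := exists_herm_ne_zero hF hu0
  have h6 := hact x
  rw [hc, one_smul, act_siegel, smul_zero, add_zero, one_mul, herm_zero_right hF, sub_zero] at h6
  have h7 := add_eq_left.1 h6
  rcases smul_eq_zero.1 h7 with h8 | h8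
  · exact hx (herm_eq_zero_swap hF h8)
  · exact hu0 h8

end

end Cfsg.Agent.H349.Transv
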