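import Cfsg.Agent.H349.Elim

/-!
# The candidates with `2^36 · |U_6(2)|_{2'}` dividing the order (helper349)
-/

set_option autoImplicit false

namespace Cfsg.Agent.H349.Elim

open Cfsg Cfsg.Agent.OrdDiv Cfsg.Agent.H349.ESBound

universe u

/-- the order of `C_G(z)` divides the order of `G` -/
def PU (c : ℕ) : Bool := c % (2 ^ 36 * 280665) == 0 && c % 2 ^ 38 != 0

theorem candsE_PU : candsE PU = [.psp 6 2, .psu 9 2, .te6 2] := by decide +kernel

/-- **The three candidates** -/
theorem three (T : OrderTable.{u}) {S : Type u} [Group S] (h : IsKnownSimple' S)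
    (hES : HasES (2 ^ 21) S) (h38 : ¬ 2 ^ 38 ∣ Nat.card S) (hd : 2 ^ 36 * 280665 ∣ Nat.card S) :
    Real (.psp 6 2) S ∨ Real (.psu 9 2) S ∨ Real (.te6 2) S := by
  have hP : PU (Nat.card S) = true := by
    unfold PU
    rw [Bool.and_eq_true]
    refine ⟨by simpa using Nat.mod_eq_zero_of_dvd hd, ?_⟩
    rw [bne_iff_ne]
    intro h0
    exact h38 (Nat.dvd_of_mod_eq_zero h0)
  obtain ⟨g, hg, hr⟩ := elim T h hES h38 hP
  rw [candsE_PU] at hg
  simp only [List.mem_cons, List.not_mem_nil, or_false] at hg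
  rcases hg with rfl | rfl | rfl
  · exact Or.inl hr
  · exact Or.inr (Or.inl hr)
  · exact Or.inr (Or.inr hr)

end Cfsg.Agent.H349.Elim
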