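import Cfsg.Agent.H349.Irr
import Cfsg.Agent.H349.Transv
import Cfsg.Agent.H349.ElimTwo

/-!
# Simple groups with an involution centralizer `2^(1+20):U_6(2)` or `2^(1+20):U_6(2):2` (helper349)
-/

set_option autoImplicit false
open Cfsg

namespace Cfsg.Agent.H349.Core

open Cfsg.Agent.Co2Type.Quad (Large)
open Cfsg.Agent.H349.ExtraRep Cfsg.Agent.H349.ESBound Cfsg.Agent.OrdDiv

universe u

theorem hasES {G : Type*} [Group G] {Q : Subgroup G} {z : G} (hL : Large Q z) {N : ℕ} (hc : Nat.card Q = N) :
    HasES N G :=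
  ⟨Q, ⟨z, hL.z_mem⟩,
    { ne := fun h => hL.z_ne (congrArg Subtype.val h)
      sq := Subtype.ext hL.z_sq
      zc := fun x => Subtype.ext (hL.comm_z x x.2)
      comm := fun x y => by
        rcases hL.comm x x.2 y y.2 with h | h
        · exact Or.inl (Subtype.ext h)
        · exact Or.inr (Subtype.ext h)
      cent := fun x hx => by
        rcases hL.cent x x.2 (fun y hy => congrArg Subtype.val (hx ⟨y, hy⟩)) with h | h
        · exact Or.inl (Subtype.ext h)
        · exact Or.inr (Subtype.ext h) }, hc⟩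

theorem card_psp {F : Type*} [Field F] [Fintype F] (hF : Fintype.card F = 2) :
    Nat.card (PSp 6 F) = 2 ^ 36 * 3028466566125 := by
  have h1 := S0245.result hF 6
  have h2 := S0246.result hF 6 (by norm_num)
  have h3 := Subgroup.card_eq_card_quotient_mul_card_subgroup
    (Subgroup.center (Matrix.symplecticGroup (Fin 6) F))
  rw [h1, h2] at h3
  simp only [Finset.prod_range_succ, Finset.prod_range_zero] at h3
  norm_num at h3 ⊢
  exact h3.symm

theorem card_psu9 {F : Type*} [Field F] [Fintype F] (hF : Fintype.card F = 2 ^ 2) :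
    Nat.card (PSU 9 F 2) = 2 ^ 36 * 4736259764775 := by
  have h1 := S0280.result hF 9 (by norm_num)
  simp only [Finset.prod_range_succ, Finset.prod_range_zero] at h1
  norm_num [Nat.even_iff] at h1 ⊢
  omega

theorem card_psu6 {F : Type*} [Field F] [Fintype F] (hF : Fintype.card F = 2 ^ 2) :
    Nat.card (PSU 6 F 2) = 2 ^ 15 * 280665 := by
  have h1 := S0280.result hF 6 (by norm_num)
  simp only [Finset.prod_range_succ, Finset.prod_range_zero] at h1
  norm_num [Nat.even_iff] at h1 ⊢
  omega

theorem core (T : OrderTable.{u}) {G : Type u} [Group G] [Finite G] (hk : IsKnownSimple' G) {Q : Subgroup G} {z : G}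
    (hL : Large Q z) (hcard : Nat.card Q = 2 ^ 21)
    (hC : Nat.card (Subgroup.centralizer ({z} : Set G)) = 2 ^ 36 * 280665 ∨
      Nat.card (Subgroup.centralizer ({z} : Set G)) = 2 ^ 37 * 280665) :
    Real (.te6 2) G ∧ Nat.card (Subgroup.centralizer ({z} : Set G)) = 2 ^ 36 * 280665 := by
  have hidx := LargeExtra.TwoCentral.odd_index hL
  have hG := Subgroup.card_mul_index (Subgroup.centralizer ({z} : Set G))
  have h38 : ¬ 2 ^ 38 ∣ Nat.card G := by
    intro h
    rw [← hG] at h
    have h1 : 2 ^ 38 ∣ Nat.card (Subgroup.centralizer ({z} : Set G)) :=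
      Nat.Coprime.dvd_of_dvd_mul_right (Nat.Coprime.pow_left _ ((Nat.coprime_two_left).2 hidx)) h
    rcases hC with h2 | h2 <;> rw [h2] at h1 <;> revert h1 <;> norm_num
  have hd : 2 ^ 36 * 280665 ∣ Nat.card G := by
    rw [← hG]
    refine Dvd.dvd.mul_right ?_ _
    rcases hC with h2 | h2 <;> rw [h2]
    norm_num
  have hle : Nat.card (Subgroup.centralizer ({z} : Set G)) ≤ 2 ^ 37 * 280665 := by
    rcases hC with h2 | h2 <;> rw [h2]
    norm_num
  rcases Elim.three T hk (hasES hL hcard) h38 hd with h | h | h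
  · exfalso
    obtain ⟨F, _, _, hF, ⟨e⟩⟩ := h
    have h1 := Transv.sp hL hF (by norm_num) e
    have h2 := Nat.mul_le_mul hle h1
    rw [hG, Nat.card_congr e.toEquiv, card_psp hF] at h2
    norm_num at h2
  · exfalso
    obtain ⟨F, _, _, hF, ⟨e⟩⟩ := h
    have h1 := Transv.su hL hF (by norm_num) e
    have h2 := Nat.mul_le_mul hle h1
    rw [hG, Nat.card_congr e.toEquiv, card_psu9 hF] at h2
    norm_num at h2
  · refine ⟨h, ?_⟩
    rcases hC with h2 | h2
    · exact h2
    · exfalso
      obtain ⟨F, _, _, hF, ⟨e⟩⟩ := h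
      have h3 := T.te6 F 2 Nat.prime_two.isPrimePow hF
      have h4 : 2 ^ 37 ∣ Nat.card G := by
        rw [← hG, h2]
        exact Dvd.dvd.mul_right (Dvd.intro _ rfl) _
      rw [Nat.card_congr e.toEquiv] at h4
      norm_num at h3 h4
      omega

end Cfsg.Agent.H349.Core
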