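import Cfsg.Agent.H349.ExtraRep
import Cfsg.Agent.LieClassical.SympCenter
import Cfsg.Agent.LieClassical.SUBasic
import Cfsg.Agent.LieClassical.OrthCenter
import Cfsg.Agent.LieClassical.OmegaReindex

/-!
# Degrees of classical groups in odd characteristic containing extraspecial 2-groups (helper349)

`HasES N X` : `X` has a subgroup of order `N` with centre `{1, z}`, `z² = 1`, and commutators in `{1, z}`.  If `X` is
one of the classical groups in odd characteristic, then `N ≤ 2 n ^ 4` for the degree `n`; if `X` is a linear group of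
degree `n`, then `N ≤ 2 n ^ 2`.
-/

set_option autoImplicit false

namespace Cfsg.Agent.H349.ESBound

open Cfsg Cfsg.Agent.H349.ExtraRep

/-- `X` has a subgroup of order `N` with centre `{1, z}`, `z² = 1`, and commutators in `{1, z}` -/
def HasES (N : ℕ) (X : Type*) [Group X] : Prop := ∃ (Q : Subgroup X) (z : Q), ES Q z ∧ Nat.card Q = N

theorem es_congr {Q R : Type*} [Group Q] [Group R] {z : Q} (h : ES Q z) (e : Q ≃* R) : ES R (e z) where
  ne := fun h1 => h.ne (e.injective (h1.trans (map_one e).symm))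
  sq := by rw [← map_mul, h.sq, map_one]
  zc := fun x => by
    have := congrArg e (h.zc (e.symm x))
    simpa using this
  comm := fun x y => by
    rcases h.comm (e.symm x) (e.symm y) with h1 | h1
    · left; simpa using congrArg e h1
    · right; simpa using congrArg e h1
  cent := fun x hx => by
    rcases h.cent (e.symm x) (fun y => by
      apply e.injective
      rw [map_mul, map_mul, e.apply_symm_apply]
      exact hx (e y)) with h1 | h1
    · left; rw [← e.apply_symm_apply x, h1, map_one]
    · right; rw [← e.apply_symm_apply x, h1]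

theorem HasES.congr {N : ℕ} {X Y : Type*} [Group X] [Group Y] (e : X ≃* Y) (h : HasES N X) : HasES N Y := by
  obtain ⟨Q, z, hz, hc⟩ := h
  refine ⟨Q.map e.toMonoidHom, (Q.equivMapOfInjective e.toMonoidHom e.injective) z, es_congr hz _, ?_⟩
  rw [← hc]
  exact Nat.card_congr (Q.equivMapOfInjective e.toMonoidHom e.injective).toEquiv.symm

theorem HasES.mono {N : ℕ} {X Y : Type*} [Group X] [Group Y] (f : X →* Y) (hf : Function.Injective f)
    (h : HasES N X) : HasES N Y := by
  obtain ⟨Q, z, hz, hc⟩ := h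
  refine ⟨Q.map f, (Q.equivMapOfInjective f hf) z, es_congr hz _, ?_⟩
  rw [← hc]
  exact Nat.card_congr (Q.equivMapOfInjective f hf).toEquiv.symm

variable {k : Type*} [Field k] {ι : Type*} [Fintype ι] [DecidableEq ι]

/-- linear groups -/
theorem HasES.linV {N : ℕ} (hN : N ≠ 0) {X : Type*} [Group X] (h : HasES N X) (h2 : (2 : k) ≠ 0) {V : Type*}
    [AddCommGroup V] [Module k V] [FiniteDimensional k V] (φ : X →* Module.End k V) (hφ : Function.Injective φ) :
    N ≤ 2 * (Module.finrank k V) ^ 2 := by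
  obtain ⟨Q, z, hz, hc⟩ := h
  have hfin : Finite Q := Nat.finite_of_card_ne_zero (by rw [hc]; exact hN)
  have h1 := hz.card_le (k := k) (V := V) h2 (φ.comp Q.subtype) (by
      intro h1
      apply hz.ne
      apply Subtype.ext
      apply hφ
      rw [OneMemClass.coe_one, map_one]
      exact h1)
  rwa [hc] at h1

/-- matrix groups -/
theorem HasES.lin {N : ℕ} (hN : N ≠ 0) {X : Type*} [Group X] (h : HasES N X) (h2 : (2 : k) ≠ 0)
    (φ : X →* Matrix ι ι k) (hφ : Function.Injective φ) : N ≤ 2 * (Fintype.card ι) ^ 2 := by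
  have h1 := h.linV (k := k) (V := ι → k) hN h2
    (((Matrix.toLinAlgEquiv' (R := k) (n := ι)).toAlgHom : Matrix ι ι k →* Module.End k (ι → k)).comp φ) (by
      intro a b hab
      exact hφ ((Matrix.toLinAlgEquiv' (R := k) (n := ι)).injective hab))
  rwa [Module.finrank_fintype_fun_eq_card] at h1

/-- projective groups -/
theorem HasES.proj {N : ℕ} (hN : N ≠ 0) {M : Type*} [Group M] (h : HasES N (M ⧸ Subgroup.center M))
    (h2 : (2 : k) ≠ 0) (φ : M →* Matrix ι ι k) (hφ : Function.Injective φ)
    (hc : ∀ m ∈ Subgroup.center M, ∃ c, φ m = Matrix.scalar ι c) : N ≤ 2 * (Fintype.card ι) ^ 4 := by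
  obtain ⟨Q, z, hz, hcard⟩ := h
  have hfin : Finite Q := Nat.finite_of_card_ne_zero (by rw [hcard]; exact hN)
  let R : Subgroup M := Q.comap (QuotientGroup.mk' (Subgroup.center M))
  let π : R →* Q :=
    { toFun := fun r => ⟨QuotientGroup.mk' (Subgroup.center M) r, r.2⟩
      map_one' := Subtype.ext (map_one _)
      map_mul' := fun a b => Subtype.ext (map_mul _ _ _) }
  have hπ : Function.Surjective π := by
    rintro ⟨y, hy⟩
    obtain ⟨m, rfl⟩ := QuotientGroup.mk'_surjective (Subgroup.center M) y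
    exact ⟨⟨m, hy⟩, rfl⟩
  have h1 := hz.card_le_proj (k := k) h2 π hπ (φ.comp R.subtype) (by
    intro r hr
    apply hc
    have h3 : (QuotientGroup.mk' (Subgroup.center M)) r = 1 := congrArg Subtype.val hr
    exact (QuotientGroup.eq_one_iff _).1 h3) (by
    intro r hr c hcr
    apply hz.ne
    rw [← hr]
    apply Subtype.ext
    show (QuotientGroup.mk' (Subgroup.center M)) r = 1
    refine (QuotientGroup.eq_one_iff _).2 ?_
    rw [Subgroup.mem_center_iff]
    intro g
    apply hφ
    have h4 : φ r = Matrix.scalar ι c := hcr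
    rw [map_mul, map_mul, h4]
    exact (Matrix.scalar_commute c (fun _ => Commute.all _ _) (φ g)).symm.eq)
  rwa [hcard] at h1

/-! ### the classical families -/

section

variable {F : Type*} [Field F] {N : ℕ} {X : Type*} [Group X]

theorem psl (hN : N ≠ 0) (h2 : (2 : F) ≠ 0) {n : ℕ} (h : HasES N X)
    (e : X ≃* Matrix.ProjectiveSpecialLinearGroup (Fin n) F) : N ≤ 2 * n ^ 4 := by
  have h1 := (h.congr e).proj (k := F) (ι := Fin n) hN h2
    ((Units.coeHom (Matrix (Fin n) (Fin n) F)).comp Matrix.SpecialLinearGroup.toGL) (by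
      intro a b hab
      exact Subtype.ext hab) (by
      intro m hm
      obtain ⟨r, -, hr⟩ := Matrix.SpecialLinearGroup.mem_center_iff.1 hm
      exact ⟨r, hr.symm⟩)
  rwa [Fintype.card_fin] at h1

theorem psp (hN : N ≠ 0) (h2 : (2 : F) ≠ 0) {m : ℕ} (h : HasES N X) (e : X ≃* PSp m F) :
    N ≤ 2 * (m + m) ^ 4 := by
  have h1 := (h.congr e).proj (k := F) (ι := Fin m ⊕ Fin m) hN h2
    (Submonoid.subtype (Matrix.symplecticGroup (Fin m) F)) Subtype.val_injective (by
      intro A hA
      obtain ⟨a, ha⟩ := (LieClassical.SympCenter.mem_center_iff m A).1 hA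
      refine ⟨a, ?_⟩
      show A.1 = _
      rw [ha, Matrix.scalar_apply, ← Matrix.diagonal_one, ← Matrix.diagonal_smul]
      congr 1
      funext i
      simp)
  rwa [Fintype.card_sum, Fintype.card_fin] at h1

theorem psu [Fintype F] (hN : N ≠ 0) (h2 : (2 : F) ≠ 0) {n q : ℕ} (hF : Fintype.card F = q ^ 2) (hn : 3 ≤ n)
    (h : HasES N X) (e : X ≃* PSU n F q) : N ≤ 2 * n ^ 4 := by
  have h1 := (h.congr e).proj (k := F) (ι := Fin n) hN h2
    ((slToMat n F).comp (SU n F q).subtype) (by
      intro a b hab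
      exact Subtype.ext (Subtype.ext hab)) (by
      intro m hm
      obtain ⟨c, h3, h4, rfl⟩ := (LieClassical.SUBasic.mem_center_SU_iff hF hn m).1 hm
      exact ⟨c, rfl⟩)
  rwa [Fintype.card_fin] at h1

theorem omega_inj {κ : Type} [Fintype κ] [DecidableEq κ] (Q : (κ → F) → F) :
    Function.Injective (((Units.coeHom (Matrix κ κ F)).comp (isometryGroup F Q).subtype).comp (Omega F Q).subtype) := by
  intro a b hab
  exact Subtype.ext (Subtype.ext (Units.ext hab))

theorem scalar_of {κ : Type} [Fintype κ] [DecidableEq κ] {A : Matrix κ κ F} (h : A = 1 ∨ A = -1) :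
    ∃ c, A = Matrix.scalar κ c := by
  rcases h with rfl | rfl
  · exact ⟨1, (map_one _).symm⟩
  · exact ⟨-1, by rw [map_neg, map_one]⟩

theorem oodd (hN : N ≠ 0) (h2 : (2 : F) ≠ 0) {m : ℕ} (hm : 1 ≤ m) (h : HasES N X)
    (e : X ≃* POmega F (quadFormOdd m F)) : N ≤ 2 * (1 + (m + m)) ^ 4 := by
  rw [← LieClassical.OmegaReindex.coe_quadOdd] at e
  have h1 := (h.congr e).proj (k := F) (ι := Unit ⊕ (Fin m ⊕ Fin m)) hN h2
    (((Units.coeHom (Matrix _ _ F)).comp (isometryGroup F _).subtype).comp (Omega F _).subtype) (omega_inj _) (by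
      intro x hx
      exact scalar_of ((LieClassical.OrthCenter.mem_center_omega_iff
        (LieClassical.OmegaReindex.quadOdd_nondegenerate h2)
        (by simp only [Fintype.card_sum, Fintype.card_fin, Fintype.card_unit]; omega)
        (LieClassical.OmegaReindex.quadOdd_isotropic hm) x).1 hx))
  simpa only [Fintype.card_sum, Fintype.card_fin, Fintype.card_unit] using h1

theorem oplus (hN : N ≠ 0) (h2 : (2 : F) ≠ 0) {m : ℕ} (hm : 2 ≤ m) (h : HasES N X)
    (e : X ≃* POmega F (quadFormPlus m F)) : N ≤ 2 * (m + m) ^ 4 := by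
  rw [← LieClassical.OmegaReindex.coe_quadPlus] at e
  have h1 := (h.congr e).proj (k := F) (ι := Fin m ⊕ Fin m) hN h2
    (((Units.coeHom (Matrix _ _ F)).comp (isometryGroup F _).subtype).comp (Omega F _).subtype) (omega_inj _) (by
      intro x hx
      exact scalar_of ((LieClassical.OrthCenter.mem_center_omega_iff
        LieClassical.OmegaReindex.quadPlus_nondegenerate
        (by simp only [Fintype.card_sum, Fintype.card_fin]; omega)
        (LieClassical.OmegaReindex.quadPlus_isotropic (by omega)) x).1 hx))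
  simpa only [Fintype.card_sum, Fintype.card_fin, Fintype.card_unit] using h1

theorem ominus [Finite F] (hN : N ≠ 0) (h2 : (2 : F) ≠ 0) {m : ℕ} (hm : 1 ≤ m) {a b : F}
    (hab : ∀ z₁ z₂ : F, z₁ ^ 2 + a * z₁ * z₂ + b * z₂ ^ 2 = 0 → z₁ = 0 ∧ z₂ = 0) (h : HasES N X)
    (e : X ≃* POmega F (quadFormMinus m F a b)) : N ≤ 2 * (m + m + 2) ^ 4 := by
  rw [← LieClassical.OmegaReindex.coe_quadMinus] at e
  have h1 := (h.congr e).proj (k := F) (ι := (Fin m ⊕ Fin m) ⊕ Fin 2) hN h2
    (((Units.coeHom (Matrix _ _ F)).comp (isometryGroup F _).subtype).comp (Omega F _).subtype) (omega_inj _) (by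
      intro x hx
      exact scalar_of ((LieClassical.OrthCenter.mem_center_omega_iff
        (LieClassical.OmegaReindex.quadMinus_nondegenerate hab)
        (by simp only [Fintype.card_sum, Fintype.card_fin]; omega)
        (LieClassical.OmegaReindex.quadMinus_isotropic hm a b) x).1 hx))
  simpa only [Fintype.card_sum, Fintype.card_fin, Fintype.card_unit] using h1

end

/-- subgroups of general linear groups (the exceptional groups) -/
theorem gl {F : Type*} [Field F] {N : ℕ} {X : Type*} [Group X] (hN : N ≠ 0) (h2 : (2 : F) ≠ 0) {κ : Type*}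
    [Fintype κ] [DecidableEq κ] {H : Subgroup (Matrix.GeneralLinearGroup κ F)} (h : HasES N X) (e : X ≃* H) :
    N ≤ 2 * (Fintype.card κ) ^ 2 :=
  h.lin (k := F) hN h2 (((Units.coeHom (Matrix κ κ F)).comp H.subtype).comp e.toMonoidHom) (by
    intro a b hab
    exact e.injective (Subtype.ext (Units.ext hab)))

/-- the permutation representation -/
def permRep (n : ℕ) : Equiv.Perm (Fin n) →* Module.End ℚ (Fin n → ℚ) where
  toFun σ := LinearMap.funLeft ℚ ℚ ⇑σ⁻¹
  map_one' := by ext; simp [LinearMap.funLeft]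
  map_mul' σ τ := by
    ext
    simp [LinearMap.funLeft]

/-- alternating groups -/
theorem alt {N : ℕ} {X : Type*} [Group X] (hN : N ≠ 0) {n : ℕ} (h : HasES N X)
    (e : X ≃* alternatingGroup (Fin n)) : N ≤ 2 * n ^ 2 := by
  have h1 := (h.congr e).linV (k := ℚ) (V := Fin n → ℚ) hN (by norm_num)
    ((permRep n).comp (alternatingGroup (Fin n)).subtype) (by
      intro a b hab
      apply Subtype.ext
      apply inv_injective
      ext i
      by_contra hne
      have h1 : (permRep n (a : Equiv.Perm (Fin n))) (Pi.single (((b : Equiv.Perm (Fin n))⁻¹) i) 1) i =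
          (permRep n (b : Equiv.Perm (Fin n))) (Pi.single (((b : Equiv.Perm (Fin n))⁻¹) i) 1) i := by
        have h2 : (permRep n (a : Equiv.Perm (Fin n))) = (permRep n (b : Equiv.Perm (Fin n))) := hab
        rw [h2]
      change (Pi.single (((b : Equiv.Perm (Fin n))⁻¹) i) (1 : ℚ) : Fin n → ℚ) (((a : Equiv.Perm (Fin n))⁻¹) i) =
        (Pi.single (((b : Equiv.Perm (Fin n))⁻¹) i) (1 : ℚ) : Fin n → ℚ) (((b : Equiv.Perm (Fin n))⁻¹) i) at h1
      rw [Pi.single_eq_same, Pi.single_eq_of_ne (fun h => hne (congrArg Fin.val h))] at h1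
      exact zero_ne_one h1)
  rwa [Module.finrank_fintype_fun_eq_card, Fintype.card_fin] at h1

end Cfsg.Agent.H349.ESBound
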