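import Mathlib

/-!
# Linear and projective representations of extraspecial 2-groups (helper349)

* `card_le_sq` : if the operators `ρ x` of a group commute up to scalars, then operators with different characters are
  linearly independent; so there are at most `(dim M)²` characters;
* `ES Q z` : `Q` is a group with centre `{1, z}`, `z² = 1` and all commutators in `{1, z}`;
* `ES.card_le` : in characteristic `≠ 2`, a representation of `Q` of degree `n` with `ρ z ≠ 1` has `|Q| ≤ 2 n²`;
* `ES.card_le_proj` : if `Q` acts on a matrix algebra `M_n(k)` by conjugation with elements of a group `R` mapping onto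
  `Q`, then `|Q| ≤ 2 n⁴`.
-/

set_option autoImplicit false

namespace Cfsg.Agent.H349.ExtraRep

open Module

/-- Operators commuting up to scalars with different characters are linearly independent. -/
theorem card_le_sq {k M P ι : Type*} [Field k] [AddCommGroup M] [Module k M] [FiniteDimensional k M] [Group P]
    [Fintype ι] [Nontrivial M] (ρ : P →* Module.End k M) (χ : ι → P →* k) (x : ι → P)
    (hc : ∀ i g, ρ g * ρ (x i) = χ i g • (ρ (x i) * ρ g)) (hχ : Function.Injective χ) :
    Fintype.card ι ≤ (finrank k M) ^ 2 := by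
  have hli : LinearIndependent k (fun i => ρ (x i)) := by
    rw [Fintype.linearIndependent_iff]
    intro a ha
    have hd := linearIndependent_monoidHom P k
    have hd' : LinearIndependent k (fun i => (χ i : P → k)) :=
      hd.comp χ hχ
    -- conjugate by `g`
    have h1 : ∀ g : P, ∑ i, (a i * χ i g) • ρ (x i) = 0 := by
      intro g
      have h2 : (∑ i, (a i * χ i g) • ρ (x i)) * ρ g = 0 := by
        have h3 : (∑ i, (a i * χ i g) • ρ (x i)) * ρ g = ρ g * ∑ i, a i • ρ (x i) := by
          rw [Finset.sum_mul, Finset.mul_sum]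
          refine Finset.sum_congr rfl fun i _ => ?_
          rw [smul_mul_assoc, mul_smul_comm, hc i g, smul_smul]
        rw [h3, ha, mul_zero]
      have h4 : (∑ i, (a i * χ i g) • ρ (x i)) * ρ g * ρ g⁻¹ = 0 := by rw [h2, zero_mul]
      rwa [mul_assoc, ← map_mul, mul_inv_cancel, map_one, mul_one] at h4
    intro i
    -- some vector is moved to a nonzero vector
    have hρ : ρ (x i) ≠ 0 := by
      intro h0
      have h5 : ρ (x i) * ρ (x i)⁻¹ = 1 := by rw [← map_mul, mul_inv_cancel, map_one]
      rw [h0, zero_mul] at h5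
      exact zero_ne_one h5
    obtain ⟨v, hv⟩ : ∃ v, ρ (x i) v ≠ 0 := by
      by_contra hcon
      push Not at hcon
      exact hρ (LinearMap.ext hcon)
    obtain ⟨f, hf⟩ : ∃ f : M →ₗ[k] k, f (ρ (x i) v) ≠ 0 := by
      by_contra hcon
      push Not at hcon
      exact hv ((Module.forall_dual_apply_eq_zero_iff k _).1 hcon)
    have h6 : ∑ i, (a i * f (ρ (x i) v)) • (χ i : P → k) = 0 := by
      funext g
      have h7 := congrArg (fun A : Module.End k M => f (A v)) (h1 g)
      simp only [LinearMap.sum_apply, LinearMap.smul_apply, map_sum, map_smul, smul_eq_mul, LinearMap.zero_apply,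
        map_zero] at h7
      rw [Finset.sum_apply, Pi.zero_apply, ← h7]
      refine Finset.sum_congr rfl fun i _ => ?_
      rw [Pi.smul_apply, smul_eq_mul]
      ring
    have h8 := Fintype.linearIndependent_iff.1 hd' _ h6 i
    exact (mul_eq_zero.1 h8).resolve_right hf
  have := hli.fintype_card_le_finrank
  rwa [Module.finrank_linearMap, ← sq] at this

/-- `Q` has centre `{1, z}`, `z² = 1`, and its commutators lie in `{1, z}`. -/
structure ES (Q : Type*) [Group Q] (z : Q) : Prop where
  ne : z ≠ 1
  sq : z * z = 1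
  zc : ∀ x : Q, x * z = z * x
  comm : ∀ x y : Q, x * y = y * x ∨ x * y = y * x * z
  cent : ∀ x : Q, (∀ y, x * y = y * x) → x = 1 ∨ x = z

namespace ES

variable {Q : Type*} [Group Q] {z : Q}

open Classical in
/-- the sign character of `x` -/
noncomputable def sg {k : Type*} [Field k] (h : ES Q z) (x : Q) : Q →* k where
  toFun g := if g * x = x * g then 1 else -1
  map_one' := by rw [if_pos (by rw [one_mul, mul_one])]
  map_mul' a b := by
    have hz := h.zc
    have hs := h.sq
    by_cases ha : a * x = x * a <;> by_cases hb : b * x = x * b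
    · rw [if_pos ha, if_pos hb, if_pos (by rw [mul_assoc, hb, ← mul_assoc, ha, mul_assoc]), mul_one]
    · have hb' := (h.comm b x).resolve_left hb
      rw [if_pos ha, if_neg hb, if_neg, one_mul]
      rw [mul_assoc, hb', ← mul_assoc, ← mul_assoc, ha]
      intro h1
      apply h.ne
      have h2 : x * a * b * z = x * a * b * 1 := by rw [h1]; group
      exact mul_left_cancel h2
    · have ha' := (h.comm a x).resolve_left ha
      rw [if_neg ha, if_pos hb, if_neg, mul_one]
      rw [mul_assoc, hb, ← mul_assoc, ha']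
      intro h1
      apply h.ne
      have h2 : x * a * b * z = x * a * b * 1 := by
        rw [mul_assoc (x * a) b z, hz b, ← mul_assoc, h1]; group
      exact mul_left_cancel h2
    · have ha' := (h.comm a x).resolve_left ha
      have hb' := (h.comm b x).resolve_left hb
      rw [if_neg ha, if_neg hb, if_pos, neg_mul_neg, one_mul]
      rw [mul_assoc, hb', ← mul_assoc, ← mul_assoc, ha', mul_assoc (x * a) z b, ← hz b, ← mul_assoc, mul_assoc _ z z,
        hs, mul_one, mul_assoc]

theorem sg_of_comm {k : Type*} [Field k] (h : ES Q z) {x g : Q} (hg : g * x = x * g) : h.sg (k := k) x g = 1 :=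
  if_pos hg

theorem sg_of_not {k : Type*} [Field k] (h : ES Q z) {x g : Q} (hg : ¬ g * x = x * g) : h.sg (k := k) x g = -1 :=
  if_neg hg

/-- the sign characters determine the elements up to `z` -/
theorem sg_inj {k : Type*} [Field k] (h2 : (2 : k) ≠ 0) (h : ES Q z) {x y : Q}
    (hxy : h.sg (k := k) x = h.sg y) : x = y ∨ x = y * z := by
  have h1 : (1 : k) ≠ -1 := by
    intro h1
    apply h2
    have : (1 : k) + 1 = 0 := by nth_rw 1 [h1]; rw [neg_add_cancel]
    rw [← one_add_one_eq_two]; exact this
  have key : ∀ g, g * (y⁻¹ * x) = y⁻¹ * x * g := by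
    intro g
    have hg := DFunLike.congr_fun hxy g
    by_cases hx : g * x = x * g
    · rw [h.sg_of_comm hx] at hg
      by_cases hy : g * y = y * g
      · have h3 : g * y⁻¹ = y⁻¹ * g := by
          rw [mul_inv_eq_iff_eq_mul, mul_assoc, hy, ← mul_assoc, inv_mul_cancel, one_mul]
        rw [← mul_assoc, h3, mul_assoc, hx, ← mul_assoc]
      · rw [h.sg_of_not hy] at hg
        exact absurd hg h1
    · rw [h.sg_of_not hx] at hg
      by_cases hy : g * y = y * g
      · rw [h.sg_of_comm hy] at hg
        exact absurd hg.symm h1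
      · have hx' := (h.comm g x).resolve_left hx
        have hy' := (h.comm g y).resolve_left hy
        have h3 : g * y⁻¹ = y⁻¹ * g * z := by
          rw [mul_inv_eq_iff_eq_mul]
          have : y⁻¹ * g * z * y = y⁻¹ * (g * y) * z := by rw [mul_assoc _ z y, ← h.zc y]; group
          rw [this, hy', mul_assoc _ _ z, mul_assoc _ z z, h.sq, mul_one, ← mul_assoc, inv_mul_cancel, one_mul]
        rw [← mul_assoc, h3, mul_assoc (y⁻¹ * g) z x, ← h.zc x, ← mul_assoc, mul_assoc y⁻¹ g x, hx', mul_assoc y⁻¹,
          mul_assoc (x * g) z z, h.sq, mul_one, ← mul_assoc]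
  rcases h.cent _ (fun g => (key g).symm) with h3 | h3
  · left
    exact (inv_mul_eq_one.1 h3).symm
  · right
    rw [← h3]; group

/-- **Linear bound.** -/
theorem card_le [Finite Q] {k V : Type*} [Field k] (h2 : (2 : k) ≠ 0) [AddCommGroup V] [Module k V]
    [FiniteDimensional k V] (h : ES Q z) (ρ : Q →* Module.End k V) (hz : ρ z ≠ 1) :
    Nat.card Q ≤ 2 * (finrank k V) ^ 2 := by
  classical
  -- the `-1`-eigenspace of `z`
  let M : Submodule k V := LinearMap.ker (ρ z + 1)
  have hM : ∀ g : Q, ∀ v ∈ M, ρ g v ∈ M := by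
    intro g v hv
    have hv' : ρ z v + v = 0 := hv
    change ρ z (ρ g v) + ρ g v = 0
    have h3 : ρ z (ρ g v) = ρ g (ρ z v) := by
      rw [← Module.End.mul_apply, ← map_mul, ← h.zc, map_mul, Module.End.mul_apply]
    rw [h3, ← map_add, hv', map_zero]
  have hMz : ∀ v ∈ M, ρ z v = -v := fun v hv => eq_neg_of_add_eq_zero_left hv
  have hnt : Nontrivial M := by
    obtain ⟨v, hv⟩ : ∃ v, ρ z v ≠ v := by
      by_contra hcon
      push Not at hcon
      exact hz (LinearMap.ext hcon)
    refine ⟨⟨⟨ρ z v - v, ?_⟩, 0, ?_⟩⟩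
    · change ρ z (ρ z v - v) + (ρ z v - v) = 0
      rw [map_sub, ← Module.End.mul_apply, ← map_mul, h.sq, map_one, Module.End.one_apply]
      abel
    · intro h0
      exact hv (sub_eq_zero.1 (congrArg Subtype.val h0))
  let ρ' : Q →* Module.End k M :=
    { toFun := fun g => (ρ g).restrict (hM g)
      map_one' := by
        ext v
        simp [LinearMap.restrict_apply]
      map_mul' := by
        intro a b
        ext v
        simp [LinearMap.restrict_apply] }
  have hρ' : ∀ g (v : M), ((ρ' g v : M) : V) = ρ g v := fun g v => rfl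
  let S : Subgroup Q := Subgroup.zpowers z
  have hSm : ∀ x, x ∈ S ↔ x = 1 ∨ x = z := by
    intro x
    constructor
    · rintro ⟨n, rfl⟩
      rcases Int.even_or_odd' n with ⟨m, rfl | rfl⟩
      · left
        change z ^ (2 * m) = 1
        rw [zpow_mul, zpow_two, h.sq, one_zpow]
      · right
        change z ^ (2 * m + 1) = z
        rw [zpow_add, zpow_mul, zpow_two, h.sq, one_zpow, one_mul, zpow_one]
    · rintro (rfl | rfl)
      · exact one_mem _
      · exact Subgroup.mem_zpowers _
  have hScard : Nat.card S = 2 := by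
    rw [Nat.card_zpowers]
    have : Fact (Nat.Prime 2) := ⟨Nat.prime_two⟩
    exact orderOf_eq_prime (by rw [pow_two]; exact h.sq) h.ne
  have : Fintype (Q ⧸ S) := Fintype.ofFinite _
  have h5 := card_le_sq (k := k) (M := M) (ι := Q ⧸ S) ρ' (fun i => h.sg i.out) (fun i => i.out) (by
    intro i g
    ext v
    by_cases hc : g * i.out = i.out * g
    · rw [h.sg_of_comm hc, one_smul, ← map_mul, ← map_mul, hc]
    · have hc' := (h.comm g i.out).resolve_left hc
      rw [h.sg_of_not hc, ← map_mul, ← map_mul, hc', LinearMap.smul_apply, Submodule.coe_smul, hρ', hρ']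
      rw [map_mul, Module.End.mul_apply, hMz v v.2, map_neg, neg_smul, one_smul]) (by
    intro i j hij
    rcases h.sg_inj h2 hij with h6 | h6
    · rw [← QuotientGroup.out_eq' i, ← QuotientGroup.out_eq' j]
      exact congrArg _ h6
    · rw [← QuotientGroup.out_eq' i, ← QuotientGroup.out_eq' j, eq_comm, QuotientGroup.eq, hSm, h6]
      right
      group)
  have h6 : finrank k M ≤ finrank k V := Submodule.finrank_le M
  rw [← Subgroup.card_mul_index S, hScard]
  have h7 : S.index = Fintype.card (Q ⧸ S) := by
    rw [Subgroup.index, Nat.card_eq_fintype_card]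
  rw [h7]
  calc 2 * Fintype.card (Q ⧸ S) ≤ 2 * (finrank k M) ^ 2 := Nat.mul_le_mul_left 2 h5
    _ ≤ 2 * (finrank k V) ^ 2 := Nat.mul_le_mul_left 2 (Nat.pow_le_pow_left h6 2)

/-- **Projective bound.** -/
theorem card_le_proj [Finite Q] {k ι R : Type*} [Field k] (h2 : (2 : k) ≠ 0) [Fintype ι] [DecidableEq ι] [Group R]
    (h : ES Q z) (π : R →* Q) (hπ : Function.Surjective π) (ρ : R →* Matrix ι ι k)
    (hker : ∀ r, π r = 1 → ∃ c : k, ρ r = Matrix.scalar ι c)
    (hz : ∀ r, π r = z → ∀ c : k, ρ r ≠ Matrix.scalar ι c) :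
    Nat.card Q ≤ 2 * (Fintype.card ι) ^ 4 := by
  let Ad : R →* Module.End k (Matrix ι ι k) :=
    { toFun := fun r =>
        { toFun := fun A => ρ r * A * ρ r⁻¹
          map_add' := fun A B => by rw [mul_add, add_mul]
          map_smul' := fun c A => by simp }
      map_one' := by
        ext A
        simp
      map_mul' := by
        intro a b
        apply LinearMap.ext
        intro A
        change ρ (a * b) * A * ρ (a * b)⁻¹ = ρ a * (ρ b * A * ρ b⁻¹) * ρ a⁻¹
        rw [mul_inv_rev, map_mul, map_mul]
        simp only [mul_assoc] }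
  have hAd : ∀ r A, Ad r A = ρ r * A * ρ r⁻¹ := fun r A => rfl
  have hinv : ∀ r, ρ r * ρ r⁻¹ = 1 := fun r => by rw [← map_mul, mul_inv_cancel, map_one]
  have hk : π.ker ≤ Ad.ker := by
    intro r hr
    rw [MonoidHom.mem_ker] at hr ⊢
    obtain ⟨c, hc⟩ := hker r hr
    apply LinearMap.ext
    intro A
    rw [hAd, hc, (Matrix.scalar_commute c (fun _ => Commute.all _ _) A).eq, mul_assoc, ← hc, hinv, mul_one]
    rfl
  let e := QuotientGroup.quotientKerEquivOfSurjective π hπ
  let Ad' : Q →* Module.End k (Matrix ι ι k) := (QuotientGroup.lift π.ker Ad hk).comp e.symm.toMonoidHom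
  have hAd' : ∀ r, Ad' (π r) = Ad r := by
    intro r
    have : e.symm (π r) = QuotientGroup.mk r := by
      rw [MulEquiv.symm_apply_eq]
      rfl
    change QuotientGroup.lift π.ker Ad hk (e.symm (π r)) = Ad r
    rw [this]
    rfl
  obtain ⟨r, hr⟩ := hπ z
  have h3 := h.card_le h2 Ad' (by
    rw [← hr, hAd']
    intro h4
    have h5 : ∀ A, ρ r * A = A * ρ r := by
      intro A
      have h6 : Ad r A = A := by rw [h4]; rfl
      rw [hAd] at h6
      have h7 : ρ r * A * ρ r⁻¹ * ρ r = A * ρ r := by rw [h6]
      rwa [mul_assoc, ← map_mul, inv_mul_cancel, map_one, mul_one] at h7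
    have h8 : ρ r ∈ Set.range (Matrix.scalar ι (α := k)) := by
      rw [Matrix.mem_range_scalar_iff_commute_single']
      intro i j
      exact (h5 _).symm
    obtain ⟨c, hc⟩ := h8
    exact hz r hr c hc.symm)
  rw [Module.finrank_matrix, Module.finrank_self, mul_one, ← pow_two, ← pow_mul] at h3
  exact h3

end ES

end Cfsg.Agent.H349.ExtraRep
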