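import Cfsg.Agent.H349.USixMod
import Cfsg.Agent.LargeExtra.TwoCentral

/-!
# `U_6(2)` acts irreducibly on `2^(1+20)` (helper349)

`irr` : `Q` large extraspecial of order `2^21` in `C_G(z)`, `Q ≤ H ≤ C_G(z)`, `H / Q ≅ U_6(2)`; then `H` is
irreducible on `Q / ⟨z⟩`.
-/

set_option autoImplicit false
open Cfsg

namespace Cfsg.Agent.H349.Irr

open Cfsg.Agent.Co2Type.Quad (Large)
open Cfsg.Agent.H349.USixMod

/-- factoring through a surjection -/
theorem exists_lift {H P M : Type*} [Group H] [Group P] [Monoid M] (φ : H →* P) (hφ : Function.Surjective φ)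
    (ρ : H →* M) (h : ∀ x, φ x = 1 → ρ x = 1) : ∃ ρ' : P →* M, ∀ x, ρ' (φ x) = ρ x := by
  refine ⟨(QuotientGroup.lift φ.ker ρ (fun x hx => h x hx)).comp
    (QuotientGroup.quotientKerEquivOfSurjective φ hφ).symm.toMonoidHom, fun x => ?_⟩
  have h1 : (QuotientGroup.quotientKerEquivOfSurjective φ hφ).symm (φ x) = (x : H ⧸ φ.ker) := by
    rw [MulEquiv.symm_apply_eq]
    rfl
  show (QuotientGroup.lift φ.ker ρ (fun x hx => h x hx)) ((QuotientGroup.quotientKerEquivOfSurjective φ hφ).symm (φ x)) = _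
  rw [h1]
  rfl

variable {F : Type*} [Field F] [Fintype F]

/-- `U_6(2)` has elements which are not involutions -/
theorem exists_sq_ne (hF : Fintype.card F = 4) : ∃ g : PSU 6 F 2, g * g ≠ 1 := by
  obtain ⟨w, hw⟩ := exists_omega hF
  set d := two w (0 : Fin 6) 1 (by decide) with hd
  refine ⟨QuotientGroup.mk' _ (tor hF d), fun h => ?_⟩
  rw [← map_mul] at h
  have h1 := (QuotientGroup.eq_one_iff _).1 h
  apply tor_two_not_mem hF hw
  have h3 : tor hF d * (tor hF d * tor hF d) = 1 := by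
    rw [← map_mul, ← map_mul]
    have h4 : d * (d * d) = 1 := by
      apply Subtype.ext
      funext i
      show (d : Fin 6 → Fˣ) i * ((d : Fin 6 → Fˣ) i * (d : Fin 6 → Fˣ) i) = 1
      have := cube hF ((d : Fin 6 → Fˣ) i)
      rwa [pow_succ', pow_two] at this
    rw [h4, map_one]
  have h5 : tor hF d = (tor hF d * tor hF d)⁻¹ := eq_inv_of_mul_eq_one_left h3
  rw [← hd, h5]
  exact inv_mem h1

/-- invariant subspaces -/
theorem lin_irr (hF : Fintype.card F = 4) {H : Type*} [Group H] (φ : H →* PSU 6 F 2) (hφ : Function.Surjective φ)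
    {V : Type*} [AddCommGroup V] [Module (ZMod 2) V] [Finite V] (ρ : H →* (V ≃ₗ[ZMod 2] V))
    (hker : ∀ x, φ x = 1 → ρ x = 1) (hinj : ∀ x, ρ x = 1 → φ x = 1) (hcard : Nat.card V ≤ 2 ^ 20)
    (W : Submodule (ZMod 2) V) (hW : ∀ x, ∀ w ∈ W, ρ x w ∈ W) : W = ⊥ ∨ W = ⊤ := by
  classical
  by_contra hcon
  push Not at hcon
  obtain ⟨hbot, htop⟩ := hcon
  have hfin : Finite (V ⧸ W) := Finite.of_surjective W.mkQ W.mkQ_surjective
  have hWV : Nat.card W * Nat.card (V ⧸ W) = Nat.card V := by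
    have := Submodule.card_eq_card_quotient_mul_card W
    rw [this, mul_comm]
  have hV : 0 < Nat.card V := Nat.card_pos
  have hW1 : 1 < Nat.card W := by
    have : Nontrivial W := Submodule.nontrivial_iff_ne_bot.2 hbot
    exact Finite.one_lt_card
  have hQ1 : 1 < Nat.card (V ⧸ W) := by
    have : Nontrivial (V ⧸ W) := Submodule.Quotient.nontrivial_iff.2 htop
    exact Finite.one_lt_card
  have hWlt : Nat.card W < 2 ^ 20 := by nlinarith
  have hQlt : Nat.card (V ⧸ W) < 2 ^ 20 := by nlinarith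
  -- the action on `W`
  let ρ1 : H →* Module.End (ZMod 2) W :=
    { toFun := fun x => (ρ x : V →ₗ[ZMod 2] V).restrict (hW x)
      map_one' := by
        ext w
        show ((ρ 1) (w : V)) = w
        rw [map_one]; rfl
      map_mul' := fun x y => by
        ext w
        show ((ρ (x * y)) (w : V)) = ρ x (ρ y w)
        rw [map_mul]; rfl }
  obtain ⟨ρ1', h1'⟩ := exists_lift φ hφ ρ1 (fun x hx => by
    ext w
    show (ρ x) (w : V) = w
    rw [hker x hx]; rfl)
  have e1 : ∀ x, ∀ w ∈ W, ρ x w = w := by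
    intro x w hw
    have h2 := h1' x
    rw [trivial_of_lt hF ρ1' hWlt] at h2
    have h3 := LinearMap.congr_fun h2 ⟨w, hw⟩
    exact (congrArg Subtype.val h3).symm
  -- the action on `V / W`
  let ρ2 : H →* Module.End (ZMod 2) (V ⧸ W) :=
    { toFun := fun x => W.mapQ W (ρ x : V →ₗ[ZMod 2] V) (hW x)
      map_one' := by
        ext v
        show W.mkQ ((ρ 1) v) = W.mkQ v
        rw [map_one]; rfl
      map_mul' := fun x y => by
        ext v
        show W.mkQ ((ρ (x * y)) v) = W.mkQ (ρ x (ρ y v))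
        rw [map_mul]; rfl }
  obtain ⟨ρ2', h2'⟩ := exists_lift φ hφ ρ2 (fun x hx => by
    ext v
    show W.mkQ ((ρ x) v) = W.mkQ v
    rw [hker x hx]; rfl)
  have e2 : ∀ x v, ρ x v - v ∈ W := by
    intro x v
    have h2 := h2' x
    rw [trivial_of_lt hF ρ2' hQlt] at h2
    have h3 := LinearMap.congr_fun h2 (W.mkQ v)
    have h4 : W.mkQ v = W.mkQ (ρ x v) := h3
    exact (Submodule.Quotient.eq W).1 h4.symm
  obtain ⟨g, hg⟩ := exists_sq_ne hF
  obtain ⟨x, rfl⟩ := hφ g
  apply hg
  rw [← map_mul]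
  apply hinj
  ext v
  rw [map_mul]
  show ρ x (ρ x v) = v
  have h5 := e1 x _ (e2 x v)
  rw [map_sub, sub_eq_iff_eq_add] at h5
  rw [h5]
  have h6 : ρ x v - v + ρ x v = 2 • (ρ x v) - v := by rw [two_smul]; abel
  rw [h6]
  have h7 : (2 : ℕ) • (ρ x v) = 0 := by
    rw [← Nat.cast_smul_eq_nsmul (ZMod 2)]
    have : ((2 : ℕ) : ZMod 2) = 0 := rfl
    rw [this, zero_smul]
  have h8 : (2 : ℕ) • v = 0 := by
    rw [← Nat.cast_smul_eq_nsmul (ZMod 2)]
    have : ((2 : ℕ) : ZMod 2) = 0 := rfl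
    rw [this, zero_smul]
  rw [h7, zero_sub, neg_eq_iff_add_eq_zero, ← two_smul ℕ, h8]

variable {G : Type*} [Group G] {Q H : Subgroup G} {z : G}

/-- **Irreducibility.** -/
theorem irr [Finite G] (hF : Fintype.card F = 4) (hL : Large Q z) (hcard : Nat.card Q = 2 ^ 21)
    (hHz : ∀ h ∈ H, h * z = z * h) (φ : H →* PSU 6 F 2) (hφ : Function.Surjective φ)
    (hker : ∀ x : H, φ x = 1 ↔ (x : G) ∈ Q) {N : Subgroup G} (hN : N ≤ Q)
    (hn : ∀ u ∈ H, ∀ y ∈ N, u * y * u⁻¹ ∈ N) : (∀ y ∈ N, y = 1 ∨ y = z) ∨ N = Q := by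
  classical
  have hHC : ∀ x : H, (x : G) ∈ Subgroup.centralizer ({z} : Set G) := fun x =>
    Subgroup.mem_centralizer_singleton_iff.2 (hHz x x.2)
  let ι : H →* Subgroup.centralizer ({z} : Set G) :=
    { toFun := fun x => ⟨x, hHC x⟩
      map_one' := rfl
      map_mul' := fun _ _ => rfl }
  have hcV : Nat.card hL.V = 2 ^ 20 := by
    have h1 := hL.card_eq
    rw [hcard] at h1
    omega
  let W0 : AddSubgroup hL.V :=
    { carrier := {v | ∃ x : Q, (x : G) ∈ N ∧ hL.pr x = v}
      zero_mem' := ⟨1, N.one_mem, rfl⟩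
      add_mem' := by
        rintro _ _ ⟨x, hx, rfl⟩ ⟨y, hy, rfl⟩
        exact ⟨x * y, N.mul_mem hx hy, rfl⟩
      neg_mem' := by
        rintro _ ⟨x, hx, rfl⟩
        exact ⟨x⁻¹, N.inv_mem hx, rfl⟩ }
  let W : Submodule (ZMod 2) hL.V := AddSubgroup.toZModSubmodule 2 W0
  have hWmem : ∀ v, v ∈ W ↔ ∃ x : Q, (x : G) ∈ N ∧ hL.pr x = v := fun v => Iff.rfl
  rcases lin_irr hF φ hφ (hL.act.comp ι)
    (fun x hx => hL.act_mem (ι x) ((hker x).1 hx))
    (fun x hx => (hker x).2 (hL.mem_of_act (ι x) hx)) hcV.le W (by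
      rintro u _ ⟨x, hx, rfl⟩
      refine ⟨hL.conjQ (ι u) x, hn u u.2 x hx, ?_⟩
      exact (hL.act_pr (ι u) x).symm) with h | h
  · left
    intro y hy
    have h1 : hL.pr ⟨y, hN hy⟩ ∈ W := ⟨⟨y, hN hy⟩, hy, rfl⟩
    rw [h, Submodule.mem_bot] at h1
    exact hL.pr_eq_zero.1 h1
  · right
    have h1 : ∀ x ∈ Q, x ∈ N ∨ x * z ∈ N := by
      intro x hx
      have h2 : hL.pr ⟨x, hx⟩ ∈ W := by rw [h]; trivial
      obtain ⟨y, hy, hxy⟩ := h2
      rcases hL.pr_eq_pr.1 hxy with h3 | h3
      · left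
        have h3' : (y : G) = x := h3
        rwa [h3'] at hy
      · right
        have h3' : (y : G) = x * z := h3
        rwa [h3'] at hy
    have hzN : z ∈ N := by
      by_contra hz
      -- `N` and `Q` are abelian
      have hab : ∀ x ∈ N, ∀ y ∈ N, x * y = y * x := by
        intro x hx y hy
        rcases hL.comm x (hN hx) y (hN hy) with h3 | h3
        · exact h3
        · exfalso
          apply hz
          have : z = (y * x)⁻¹ * (x * y) := by rw [h3]; group
          rw [this]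
          exact N.mul_mem (N.inv_mem (N.mul_mem hy hx)) (N.mul_mem hx hy)
      have hall : ∀ x ∈ Q, ∀ y ∈ N, x * y = y * x := by
        intro x hx y hy
        rcases h1 x hx with h3 | h3
        · exact hab x h3 y hy
        · have h4 := hab _ h3 y hy
          have h5 : y * z = z * y := hL.comm_z y (hN hy)
          have h6 : x * y * z = y * x * z := by
            calc x * y * z = x * (y * z) := by group
              _ = (x * z) * y := by rw [h5]; group
              _ = y * x * z := by rw [h4]; group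
          exact mul_right_cancel h6
      have hNc : ∀ y ∈ N, y = 1 ∨ y = z := fun y hy => hL.cent y (hN hy) fun x hx => (hall x hx y hy).symm
      have hN1 : ∀ y ∈ N, y = 1 := by
        intro y hy
        rcases hNc y hy with h3 | h3
        · exact h3
        · rw [h3] at hy
          exact absurd hy hz
      have hQ2 : ∀ x ∈ Q, x = 1 ∨ x = z := by
        intro x hx
        rcases h1 x hx with h3 | h3
        · exact Or.inl (hN1 x h3)
        · right
          have h4 := hN1 _ h3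
          rw [mul_eq_one_iff_eq_inv, hL.z_inv] at h4
          exact h4
      have h5 : Nat.card Q ≤ 2 := by
        have h6 : Function.Surjective (fun i : Fin 2 => if i = 0 then (1 : Q) else ⟨z, hL.z_mem⟩) := by
          intro x
          rcases hQ2 x x.2 with h7 | h7
          · exact ⟨0, Subtype.ext h7.symm⟩
          · exact ⟨1, Subtype.ext h7.symm⟩
        have := Nat.card_le_card_of_surjective _ h6
        rwa [Nat.card_fin] at this
      rw [hcard] at h5
      norm_num at h5
    refine le_antisymm hN fun x hx => ?_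
    rcases h1 x hx with h3 | h3
    · exact h3
    · have : x = (x * z) * z⁻¹ := by group
      rw [this]
      exact N.mul_mem h3 (N.inv_mem hzN)

end Cfsg.Agent.H349.Irr
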