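import Mathlib

/-!
# Regular linear groups: the field generated by an abelian normal subgroup (helper349)

`Reg ρ` : `G` acts regularly on the nonzero vectors of `V`.  `exists_field` : an abelian normal subgroup `A` generates a
field `E` in `End V`, and `G` acts semilinearly on the `E`-space `V`.
-/

set_option autoImplicit false

namespace Cfsg.Agent.H349.RegField

universe u

variable {q : ℕ} [Fact q.Prime] {V : Type u} [AddCommGroup V] [Module (ZMod q) V] {G : Type*} [Group G]

/-- regular on the nonzero vectors -/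
structure Reg (ρ : G →* (V ≃ₗ[ZMod q] V)) : Prop where
  trans : ∀ v w : V, v ≠ 0 → w ≠ 0 → ∃ g : G, ρ g v = w
  reg : ∀ v : V, v ≠ 0 → ∀ g : G, ρ g v = v → g = 1

/-- the operators -/
def op (ρ : G →* (V ≃ₗ[ZMod q] V)) (g : G) : Module.End (ZMod q) V := (ρ g).toLinearMap

theorem op_apply (ρ : G →* (V ≃ₗ[ZMod q] V)) (g : G) (v : V) : op ρ g v = ρ g v := rfl

theorem op_mul (ρ : G →* (V ≃ₗ[ZMod q] V)) (g h : G) : op ρ (g * h) = op ρ g * op ρ h := by
  ext v
  show ρ (g * h) v = ρ g (ρ h v)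
  rw [map_mul]; rfl

theorem op_one (ρ : G →* (V ≃ₗ[ZMod q] V)) : op ρ 1 = 1 := by
  ext v
  show ρ 1 v = v
  rw [map_one]; rfl

/-- the algebra generated by `A` -/
def alg (ρ : G →* (V ≃ₗ[ZMod q] V)) (A : Subgroup G) : Subalgebra (ZMod q) (Module.End (ZMod q) V) :=
  Algebra.adjoin (ZMod q) (op ρ '' (A : Set G))

theorem op_mem {ρ : G →* (V ≃ₗ[ZMod q] V)} {A : Subgroup G} {a : G} (ha : a ∈ A) : op ρ a ∈ alg ρ A :=
  Algebra.subset_adjoin ⟨a, ha, rfl⟩

variable {ρ : G →* (V ≃ₗ[ZMod q] V)} {A : Subgroup G}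

theorem alg_comm (hab : ∀ a ∈ A, ∀ b ∈ A, a * b = b * a) {r s : Module.End (ZMod q) V} (hr : r ∈ alg ρ A)
    (hs : s ∈ alg ρ A) : r * s = s * r := by
  have h1 : ∀ a ∈ A, ∀ t ∈ alg ρ A, op ρ a * t = t * op ρ a := by
    intro a ha t ht
    refine Algebra.adjoin_induction (p := fun t _ => op ρ a * t = t * op ρ a) ?_ ?_ ?_ ?_ ht
    · rintro _ ⟨b, hb, rfl⟩
      rw [← op_mul, hab a ha b hb, op_mul]
    · intro c
      exact (Algebra.commutes c (op ρ a)).symm
    · intro x y _ _ hx hy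
      rw [mul_add, hx, hy, add_mul]
    · intro x y _ _ hx hy
      rw [← mul_assoc, hx, mul_assoc, hy, mul_assoc]
  refine Algebra.adjoin_induction (p := fun r _ => r * s = s * r) ?_ ?_ ?_ ?_ hr
  · rintro _ ⟨a, ha, rfl⟩
    exact h1 a ha s hs
  · intro c
    exact Algebra.commutes c s
  · intro x y _ _ hx hy
    rw [mul_add, ← hx, ← hy, add_mul]
  · intro x y _ _ hx hy
    rw [mul_assoc, hy, ← mul_assoc, hx, mul_assoc]

theorem conj_mem [hA : A.Normal] (g : G) {r : Module.End (ZMod q) V} (hr : r ∈ alg ρ A) :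
    op ρ g * r * op ρ g⁻¹ ∈ alg ρ A := by
  refine Algebra.adjoin_induction (p := fun r _ => op ρ g * r * op ρ g⁻¹ ∈ alg ρ A) ?_ ?_ ?_ ?_ hr
  · rintro _ ⟨a, ha, rfl⟩
    rw [← op_mul, ← op_mul]
    exact op_mem (hA.conj_mem a ha g)
  · intro c
    rw [← Algebra.commutes, mul_assoc, ← op_mul, mul_inv_cancel, op_one, mul_one]
    exact Subalgebra.algebraMap_mem _ c
  · intro x y _ _ hx hy
    rw [mul_add, add_mul]
    exact add_mem hx hy
  · intro x y _ _ hx hy
    have : op ρ g * (x * y) * op ρ g⁻¹ = (op ρ g * x * op ρ g⁻¹) * (op ρ g * y * op ρ g⁻¹) := by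
      have h1 : op ρ g⁻¹ * op ρ g = 1 := by rw [← op_mul, inv_mul_cancel, op_one]
      calc op ρ g * (x * y) * op ρ g⁻¹ = op ρ g * x * 1 * y * op ρ g⁻¹ := by rw [mul_one]; simp only [mul_assoc]
        _ = op ρ g * x * (op ρ g⁻¹ * op ρ g) * y * op ρ g⁻¹ := by rw [h1]
        _ = _ := by simp only [mul_assoc]
    rw [this]
    exact mul_mem hx hy

/-- the orbit of a vector under the algebra -/
def W (ρ : G →* (V ≃ₗ[ZMod q] V)) (A : Subgroup G) (v : V) : AddSubgroup V where
  carrier := {w | ∃ r ∈ alg ρ A, r v = w}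
  zero_mem' := ⟨0, zero_mem _, rfl⟩
  add_mem' := by
    rintro _ _ ⟨r, hr, rfl⟩ ⟨s, hs, rfl⟩
    exact ⟨r + s, add_mem hr hs, rfl⟩
  neg_mem' := by
    rintro _ ⟨r, hr, rfl⟩
    exact ⟨-r, neg_mem hr, rfl⟩

theorem mem_W {v w : V} : w ∈ W ρ A v ↔ ∃ r ∈ alg ρ A, r v = w := Iff.rfl

theorem self_mem_W (v : V) : v ∈ W ρ A v := ⟨1, one_mem _, rfl⟩

variable [Finite V]

theorem card_W_le [A.Normal] (h : Reg ρ) {v w : V} (hv : v ≠ 0) (hw : w ≠ 0) :
    Nat.card (W ρ A v) ≤ Nat.card (W ρ A w) := by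
  obtain ⟨g, hg⟩ := h.trans v w hv hw
  refine Nat.card_le_card_of_injective (fun x : W ρ A v => (⟨ρ g x, ?_⟩ : W ρ A w)) ?_
  · obtain ⟨r, hr, hx⟩ := x.2
    refine ⟨op ρ g * r * op ρ g⁻¹, conj_mem g hr, ?_⟩
    rw [← hg, ← hx]
    show ρ g (r (ρ g⁻¹ (ρ g v))) = ρ g (r v)
    have : ρ g⁻¹ (ρ g v) = v := by
      have h1 : (ρ g⁻¹ * ρ g) v = v := by rw [← map_mul, inv_mul_cancel, map_one]; rfl
      exact h1
    rw [this]
  · intro x y hxy
    exact Subtype.ext ((ρ g).injective (congrArg Subtype.val hxy))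

theorem W_eq [A.Normal] (h : Reg ρ) {v w : V} (hv : v ≠ 0) (hw : w ≠ 0) (hvw : w ∈ W ρ A v) :
    W ρ A w = W ρ A v := by
  obtain ⟨s, hs, rfl⟩ := hvw
  apply AddSubgroup.eq_of_le_of_card_ge
  · rintro _ ⟨r, hr, rfl⟩
    exact ⟨r * s, mul_mem hr hs, rfl⟩
  · exact card_W_le h hv hw

/-- nonzero elements of the algebra are injective -/
theorem eq_zero_of [A.Normal] (h : Reg ρ) (hab : ∀ a ∈ A, ∀ b ∈ A, a * b = b * a) {r : Module.End (ZMod q) V}
    (hr : r ∈ alg ρ A) {v : V} (hv : v ≠ 0) (hrv : r v = 0) : r = 0 := by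
  have key : ∀ w ∈ W ρ A v, r w = 0 := by
    rintro _ ⟨s, hs, rfl⟩
    have : (r * s) v = (s * r) v := by rw [alg_comm hab hr hs]
    have h1 : r (s v) = s (r v) := this
    rw [h1, hrv, map_zero]
  ext w
  show r w = 0
  by_contra hne
  have hw0 : w ≠ 0 := by
    rintro rfl
    exact hne (map_zero _)
  have hvw : v + w ≠ 0 := by
    intro h0
    apply hne
    have : w = -v := (neg_eq_of_add_eq_zero_right h0).symm
    rw [this, map_neg, hrv, neg_zero]
  have h1 : r w ∈ W ρ A w := ⟨r, hr, rfl⟩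
  have h2 : r w ∈ W ρ A (v + w) := ⟨r, hr, by rw [map_add, hrv, zero_add]⟩
  have h3 := W_eq h hw0 hne h1
  have h4 := W_eq h hvw hne h2
  have h5 : v + w ∈ W ρ A w := by rw [← h3, h4]; exact self_mem_W _
  have h6 : v ∈ W ρ A w := by
    have := (W ρ A w).sub_mem h5 (self_mem_W w)
    rwa [add_sub_cancel_right] at this
  have h7 := W_eq h hw0 hv h6
  exact hne (key w (h7 ▸ self_mem_W w))

theorem isField [Nontrivial V] [A.Normal] (h : Reg ρ) (hab : ∀ a ∈ A, ∀ b ∈ A, a * b = b * a) :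
    IsField (alg ρ A) := by
  have hfin : Finite (Module.End (ZMod q) V) := Finite.of_injective (fun f : Module.End (ZMod q) V => (f : V → V))
    DFunLike.coe_injective
  have hfin' : Finite (alg ρ A) := Subtype.finite
  obtain ⟨v, hv⟩ := exists_ne (0 : V)
  refine ⟨⟨0, 1, ?_⟩, fun r s => Subtype.ext (alg_comm hab r.2 s.2), ?_⟩
  · intro h0
    have h1 := congrArg (fun r : alg ρ A => (r : Module.End (ZMod q) V) v) h0
    exact hv h1.symm
  · intro r hr
    have hinj : Function.Injective (fun s : alg ρ A => r * s) := by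
      intro s t hst
      by_contra hne
      have hne' : ((s - t : alg ρ A) : Module.End (ZMod q) V) ≠ 0 := by
        intro h0
        exact hne (sub_eq_zero.1 (Subtype.ext h0))
      obtain ⟨w, hw⟩ : ∃ w, ((s - t : alg ρ A) : Module.End (ZMod q) V) w ≠ 0 := by
        by_contra hcon
        push Not at hcon
        exact hne' (LinearMap.ext hcon)
      apply hr
      apply Subtype.ext
      apply eq_zero_of h hab r.2 hw
      have h1 : r * (s - t) = 0 := by rw [mul_sub]; exact sub_eq_zero.2 hst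
      exact congrArg (fun r : alg ρ A => (r : Module.End (ZMod q) V) w) h1
    obtain ⟨s, hs⟩ := (Finite.injective_iff_surjective.1 hinj) 1
    exact ⟨s, hs⟩

/-- **The field generated by `A`.** -/
theorem exists_field [Nontrivial V] [A.Normal] (h : Reg ρ) (hab : ∀ a ∈ A, ∀ b ∈ A, a * b = b * a) :
    ∃ (E : Type u) (_ : Field E) (_ : Finite E) (_ : Algebra (ZMod q) E) (_ : Module E V)
      (σ : G →* (E ≃ₐ[ZMod q] E)) (ι : A →* Eˣ), Function.Injective ι ∧ (∀ a v, (ι a : E) • v = ρ a v) ∧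
      (∀ g r v, ρ g (r • v) = σ g r • ρ g v) ∧ (∀ g, (∀ a ∈ A, g * a = a * g) → σ g = 1) := by
  have hfin : Finite (Module.End (ZMod q) V) := Finite.of_injective (fun f : Module.End (ZMod q) V => (f : V → V))
    DFunLike.coe_injective
  have hfin' : Finite (alg ρ A) := Subtype.finite
  letI fE : Field (alg ρ A) := (isField h hab).toField
  letI aE : Algebra (ZMod q) (alg ρ A) := (alg ρ A).algebra'
  letI mE : Module (alg ρ A) V :=
    { smul := fun r v => (r : Module.End (ZMod q) V) v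
      one_smul := fun v => rfl
      mul_smul := fun r s v => rfl
      smul_zero := fun r => map_zero _
      smul_add := fun r v w => map_add _ v w
      add_smul := fun r s v => rfl
      zero_smul := fun v => rfl }
  let σ : G →* (alg ρ A ≃ₐ[ZMod q] alg ρ A) :=
    { toFun := fun g =>
        { toFun := fun r => ⟨op ρ g * r * op ρ g⁻¹, conj_mem g r.2⟩
          invFun := fun r => ⟨op ρ g⁻¹ * r * op ρ g, by
            have := conj_mem (ρ := ρ) g⁻¹ r.2
            rwa [inv_inv] at this⟩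
          left_inv := fun r => by
            apply Subtype.ext
            show op ρ g⁻¹ * (op ρ g * r * op ρ g⁻¹) * op ρ g = r
            have h1 : op ρ g⁻¹ * op ρ g = 1 := by rw [← op_mul, inv_mul_cancel, op_one]
            calc op ρ g⁻¹ * (op ρ g * r * op ρ g⁻¹) * op ρ g
                = (op ρ g⁻¹ * op ρ g) * r * (op ρ g⁻¹ * op ρ g) := by simp only [mul_assoc]
              _ = r := by rw [h1, one_mul, mul_one]
          right_inv := fun r => by
            apply Subtype.ext
            show op ρ g * (op ρ g⁻¹ * r * op ρ g) * op ρ g⁻¹ = r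
            have h1 : op ρ g * op ρ g⁻¹ = 1 := by rw [← op_mul, mul_inv_cancel, op_one]
            calc op ρ g * (op ρ g⁻¹ * r * op ρ g) * op ρ g⁻¹
                = (op ρ g * op ρ g⁻¹) * r * (op ρ g * op ρ g⁻¹) := by simp only [mul_assoc]
              _ = r := by rw [h1, one_mul, mul_one]
          map_mul' := fun r s => by
            apply Subtype.ext
            show op ρ g * (r * s) * op ρ g⁻¹ = (op ρ g * r * op ρ g⁻¹) * (op ρ g * s * op ρ g⁻¹)
            have h1 : op ρ g⁻¹ * op ρ g = 1 := by rw [← op_mul, inv_mul_cancel, op_one]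
            calc op ρ g * (r * s) * op ρ g⁻¹ = op ρ g * r * 1 * s * op ρ g⁻¹ := by
                  rw [mul_one]; simp only [mul_assoc]
              _ = op ρ g * r * (op ρ g⁻¹ * op ρ g) * s * op ρ g⁻¹ := by rw [h1]
              _ = _ := by simp only [mul_assoc]
          map_add' := fun r s => by
            apply Subtype.ext
            show op ρ g * (r + s) * op ρ g⁻¹ = op ρ g * r * op ρ g⁻¹ + op ρ g * s * op ρ g⁻¹
            rw [mul_add, add_mul]
          commutes' := fun c => by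
            apply Subtype.ext
            show op ρ g * (algebraMap (ZMod q) (Module.End (ZMod q) V) c) * op ρ g⁻¹ = _
            rw [← Algebra.commutes, mul_assoc, ← op_mul, mul_inv_cancel, op_one, mul_one]
            rfl }
      map_one' := by
        ext r v
        show op ρ 1 ((r : Module.End (ZMod q) V) (op ρ 1⁻¹ v)) = (r : Module.End (ZMod q) V) v
        rw [inv_one, op_one]; rfl
      map_mul' := fun g k => by
        ext r v
        show op ρ (g * k) ((r : Module.End (ZMod q) V) (op ρ (g * k)⁻¹ v)) =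
          op ρ g (op ρ k ((r : Module.End (ZMod q) V) (op ρ k⁻¹ (op ρ g⁻¹ v))))
        rw [mul_inv_rev, op_mul, op_mul]; rfl }
  let ι0 : A →* alg ρ A :=
    { toFun := fun a => ⟨op ρ a, op_mem a.2⟩
      map_one' := Subtype.ext (op_one ρ)
      map_mul' := fun a b => Subtype.ext (op_mul ρ a b) }
  refine ⟨alg ρ A, fE, hfin', aE, mE, σ, ι0.toHomUnits, ?_, fun a v => rfl, ?_, ?_⟩
  · intro a b hab'
    have h1 : ι0 a = ι0 b := congrArg Units.val hab'
    have h2 : op ρ (a : G) = op ρ b := congrArg Subtype.val h1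
    obtain ⟨v, hv⟩ := exists_ne (0 : V)
    have h3 : ρ ((b : G)⁻¹ * a) v = v := by
      rw [map_mul]
      show ρ (b : G)⁻¹ (ρ a v) = v
      have h4 : ρ a v = ρ b v := congrArg (fun f : Module.End (ZMod q) V => f v) h2
      rw [h4]
      have h5 : (ρ (b : G)⁻¹ * ρ b) v = v := by rw [← map_mul, inv_mul_cancel, map_one]; rfl
      exact h5
    have h4 := h.reg v hv _ h3
    exact Subtype.ext (inv_mul_eq_one.1 h4).symm
  · intro g r v
    show ρ g ((r : Module.End (ZMod q) V) v) = op ρ g ((r : Module.End (ZMod q) V) (op ρ g⁻¹ (ρ g v)))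
    have h5 : (ρ g⁻¹ * ρ g) v = v := by rw [← map_mul, inv_mul_cancel, map_one]; rfl
    have h6 : op ρ g⁻¹ (ρ g v) = v := h5
    rw [h6]; rfl
  · intro g hg
    have h1 : ∀ r ∈ alg ρ A, op ρ g * r = r * op ρ g := by
      intro t ht
      refine Algebra.adjoin_induction (p := fun t _ => op ρ g * t = t * op ρ g) ?_ ?_ ?_ ?_ ht
      · rintro _ ⟨b, hb, rfl⟩
        rw [← op_mul, hg b hb, op_mul]
      · intro c
        exact (Algebra.commutes c (op ρ g)).symm
      · intro x y _ _ hx hy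
        rw [mul_add, hx, hy, add_mul]
      · intro x y _ _ hx hy
        rw [← mul_assoc, hx, mul_assoc, hy, mul_assoc]
    ext r v
    show (op ρ g * (r : Module.End (ZMod q) V) * op ρ g⁻¹) v = (r : Module.End (ZMod q) V) v
    rw [h1 r r.2, mul_assoc, ← op_mul, mul_inv_cancel, op_one, mul_one]

end Cfsg.Agent.H349.RegField
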