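import Mathlib

/-!
# Solvable groups with cyclic abelian subgroups: maximal abelian normal subgroups (helper349)

`GT G` : abelian normal subgroups of `G` are cyclic and commuting elements of the same prime order generate the same
subgroup.  `A` a maximal abelian normal subgroup of the solvable group `G`.  If `C_G(A) ≠ A`, then there is a normal
subgroup `B` of `G` with `A < B ≤ C_G(A)`, `B = ⟨b, c⟩ A`, `b² = c² = [b, c] = z` the involution of `A`,
`C_G(B) = A`, and `C_G(A) / B` embeds in `S_3`.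
-/

set_option autoImplicit false

namespace Cfsg.Agent.H349.RegGrp

open scoped commutatorElement

variable {G : Type*} [Group G]

/-- the hypotheses on `G` -/
structure GT (G : Type*) [Group G] : Prop where
  uniq : ∀ p : ℕ, p.Prime → ∀ u v : G, u * v = v * u → u ^ p = 1 → v ^ p = 1 → v ≠ 1 → u ∈ Subgroup.zpowers v
  cyc : ∀ A : Subgroup G, A.Normal → (∀ a ∈ A, ∀ b ∈ A, a * b = b * a) → IsCyclic A

/-- maximal abelian normal subgroups -/
structure MaxAb (A : Subgroup G) : Prop where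
  normal : A.Normal
  ab : ∀ a ∈ A, ∀ b ∈ A, a * b = b * a
  max : ∀ B : Subgroup G, B.Normal → (∀ a ∈ B, ∀ b ∈ B, a * b = b * a) → A ≤ B → B = A

theorem exists_maxAb [Finite G] : ∃ A : Subgroup G, MaxAb A := by
  have hfin : Finite (Subgroup G) := inferInstance
  obtain ⟨A, hA, hmax⟩ := Set.Finite.exists_maximalFor (fun A : Subgroup G => Nat.card A)
    {A : Subgroup G | A.Normal ∧ ∀ a ∈ A, ∀ b ∈ A, a * b = b * a} (Set.toFinite _)
    ⟨⊥, inferInstance, by
      intro a ha b hb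
      rw [Subgroup.mem_bot] at ha hb
      rw [ha, hb]⟩
  refine ⟨A, hA.1, hA.2, fun B hB hBab hAB => ?_⟩
  have h1 := hmax (j := B) ⟨hB, hBab⟩ (Subgroup.card_le_of_le hAB)
  exact (Subgroup.eq_of_le_of_card_ge hAB h1).symm

/-! ### commutator calculus -/

theorem comm_pow_right {x y w : G} (h : y * x = x * y * w) (hwx : w * x = x * w) (n : ℕ) :
    y * x ^ n = x ^ n * y * w ^ n := by
  induction n with
  | zero => simp
  | succ n ih =>
    have h1 : Commute w x := hwx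
    calc y * x ^ (n + 1) = (y * x ^ n) * x := by rw [pow_succ, mul_assoc]
      _ = x ^ n * y * (w ^ n * x) := by rw [ih]; group
      _ = x ^ n * (y * x) * w ^ n := by rw [(h1.pow_left n).eq]; group
      _ = x ^ n * (x * y * w) * w ^ n := by rw [h]
      _ = (x ^ n * x) * y * (w * w ^ n) := by group
      _ = x ^ (n + 1) * y * w ^ (n + 1) := by rw [← pow_succ, ← pow_succ']

theorem comm_pow_left {x y w : G} (h : y * x = x * y * w) (hwy : w * y = y * w) (n : ℕ) :
    y ^ n * x = x * y ^ n * w ^ n := by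
  induction n with
  | zero => simp
  | succ n ih =>
    have h1 : Commute w y := hwy
    calc y ^ (n + 1) * x = y * (y ^ n * x) := by rw [pow_succ', mul_assoc]
      _ = (y * x) * y ^ n * w ^ n := by rw [ih]; group
      _ = x * y * (w * y ^ n) * w ^ n := by rw [h]; group
      _ = x * y * (y ^ n * w) * w ^ n := by rw [(h1.pow_right n).eq]
      _ = x * (y * y ^ n) * (w * w ^ n) := by group
      _ = x * y ^ (n + 1) * w ^ (n + 1) := by rw [← pow_succ', ← pow_succ']

theorem mul_pow_class {x y w : G} (h : y * x = x * y * w) (hwx : w * x = x * w) (hwy : w * y = y * w) (n : ℕ) :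
    (x * y) ^ n = x ^ n * y ^ n * w ^ (n.choose 2) := by
  induction n with
  | zero => simp
  | succ n ih =>
    have h1 : Commute w x := hwx
    have h2 : Commute w y := hwy
    rw [pow_succ, ih]
    have h3 := comm_pow_left h hwy n
    calc x ^ n * y ^ n * w ^ n.choose 2 * (x * y) = x ^ n * y ^ n * (w ^ n.choose 2 * x) * y := by group
      _ = x ^ n * (y ^ n * x) * (w ^ n.choose 2 * y) := by rw [(h1.pow_left _).eq]; group
      _ = x ^ n * (x * y ^ n * w ^ n) * (y * w ^ n.choose 2) := by rw [h3, (h2.pow_left _).eq]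
      _ = x ^ n * x * y ^ n * (w ^ n * y) * w ^ n.choose 2 := by group
      _ = x ^ n * x * y ^ n * (y * w ^ n) * w ^ n.choose 2 := by rw [(h2.pow_left _).eq]
      _ = (x ^ n * x) * (y ^ n * y) * (w ^ n * w ^ n.choose 2) := by group
      _ = x ^ (n + 1) * y ^ (n + 1) * w ^ ((n + 1).choose 2) := by
        rw [← pow_succ, ← pow_succ, ← pow_add, Nat.choose_succ_succ' n 1, Nat.choose_one_right]

/-! ### the first step -/

/-- iterated commutator subgroups of `N` -/
def dser (N : Subgroup G) : ℕ → Subgroup G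
  | 0 => N
  | n + 1 => ⁅dser N n, dser N n⁆

theorem dser_normal (N : Subgroup G) [hN : N.Normal] (n : ℕ) : (dser N n).Normal := by
  induction n with
  | zero => exact hN
  | succ n ih =>
    have := ih
    exact Subgroup.commutator_normal _ _

theorem dser_le (N : Subgroup G) (n : ℕ) : dser N n ≤ derivedSeries G n := by
  induction n with
  | zero => exact le_top
  | succ n ih => exact Subgroup.commutator_mono ih ih

theorem dser_le_self (N : Subgroup G) [hN : N.Normal] (n : ℕ) : dser N n ≤ N := by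
  induction n with
  | zero => exact le_rfl
  | succ n ih =>
    have := dser_normal N n
    exact (Subgroup.commutator_le_left _ _).trans ih

variable {A : Subgroup G}

/-- a normal subgroup `B` with `A < B ≤ N`, `B / A` abelian of exponent `p` -/
theorem exists_step [Finite G] (hsol : Group.IsSolvable G) (hA : MaxAb A) {N : Subgroup G} (hN : N.Normal)
    (hAN : A ≤ N) (hNC : N ≤ Subgroup.centralizer (A : Set G)) (hne : ¬ N ≤ A) :
    ∃ (B : Subgroup G) (p : ℕ), p.Prime ∧ B.Normal ∧ A ≤ B ∧ B ≤ N ∧ ¬ B ≤ A ∧ (∀ b ∈ B, b ^ p ∈ A) ∧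
      ∀ x ∈ B, ∀ y ∈ B, ∃ w ∈ A, y * x = x * y * w := by
  classical
  have hAn := hA.normal
  obtain ⟨n, hn⟩ := hsol.solvable
  have hex : ∃ k, dser N k ≤ A := ⟨n, (dser_le N n).trans (by rw [hn]; exact bot_le)⟩
  set k := Nat.find hex with hk
  have hk1 : dser N k ≤ A := Nat.find_spec hex
  have hk0 : k ≠ 0 := by
    intro h0
    rw [h0] at hk1
    exact hne hk1
  obtain ⟨j, hj⟩ : ∃ j, k = j + 1 := ⟨k - 1, by omega⟩
  have hj1 : ¬ dser N j ≤ A := Nat.find_min hex (by omega)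
  have hjn := dser_normal N j
  have hjN := dser_le_self N j
  rw [hj] at hk1
  -- `B₀`
  have hcen : ∀ x ∈ N, ∀ a ∈ A, a * x = x * a := fun x hx a ha => Subgroup.mem_centralizer_iff.1 (hNC hx) a ha
  have hB0comm : ∀ x ∈ dser N j ⊔ A, ∀ y ∈ dser N j ⊔ A, ∃ w ∈ A, y * x = x * y * w := by
    intro x hx y hy
    rw [Subgroup.mem_sup_of_normal_left] at hx hy
    obtain ⟨d, hd, a, ha, rfl⟩ := hx
    obtain ⟨d', hd', a', ha', rfl⟩ := hy
    have h1 : ⁅d⁻¹, d'⁻¹⁆ ∈ dser N (j + 1) := Subgroup.commutator_mem_commutator (inv_mem hd) (inv_mem hd')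
    refine ⟨⁅d⁻¹, d'⁻¹⁆⁻¹, A.inv_mem (hk1 h1), ?_⟩
    have e1 := hcen d (hjN hd) a' ha'
    have e2 := hcen d' (hjN hd') a ha
    have e3 := hA.ab a ha a' ha'
    have e4 := hcen d (hjN hd) a ha
    have e5 := hcen d' (hjN hd') a' ha'
    rw [commutatorElement_def]
    have h2 : d' * d = d * d' * (d⁻¹ * d'⁻¹ * d⁻¹⁻¹ * d'⁻¹⁻¹)⁻¹ := by group
    have hw := hk1 h1
    rw [commutatorElement_def] at hw
    set w := (d⁻¹ * d'⁻¹ * d⁻¹⁻¹ * d'⁻¹⁻¹)⁻¹ with hwdef
    have hw' : w ∈ A := A.inv_mem hw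
    have e6 := hA.ab w hw' a ha
    have e7 := hA.ab w hw' a' ha'
    calc d' * a' * (d * a) = d' * (a' * d) * a := by group
      _ = (d' * d) * (a' * a) := by rw [e1]; group
      _ = d * d' * w * (a * a') := by rw [h2, e3]
      _ = d * d' * (w * a) * a' := by group
      _ = d * (d' * a) * (w * a') := by rw [e6]; group
      _ = d * (a * d') * (a' * w) := by rw [← e2, e7]
      _ = d * a * (d' * a') * w := by group
  obtain ⟨y, hy, hyA⟩ : ∃ y ∈ dser N j, y ∉ A := Set.not_subset.1 hj1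
  -- a prime
  have hfo := isOfFinOrder_of_finite (QuotientGroup.mk' A y)
  have ho : orderOf (QuotientGroup.mk' A y) ≠ 1 := by
    intro h1
    rw [orderOf_eq_one_iff] at h1
    exact hyA ((QuotientGroup.eq_one_iff y).1 h1)
  obtain ⟨p, hp, hpo⟩ := Nat.exists_prime_and_dvd ho
  have hcenA : ∀ w ∈ A, ∀ x ∈ dser N j ⊔ A, w * x = x * w := fun w hw x hx =>
    hcen x ((sup_le hjN hAN) hx) w hw
  refine ⟨{ carrier := {b | b ∈ dser N j ⊔ A ∧ b ^ p ∈ A}
            mul_mem' := ?_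
            one_mem' := ⟨one_mem _, by rw [one_pow]; exact A.one_mem⟩
            inv_mem' := fun {x} hx => ⟨inv_mem hx.1, by rw [inv_pow]; exact A.inv_mem hx.2⟩ }, p, hp, ?_, ?_, ?_, ?_,
            fun b hb => hb.2, fun x hx y hy => hB0comm x hx.1 y hy.1⟩
  · rintro x y ⟨hx, hxp⟩ ⟨hy, hyp⟩
    refine ⟨mul_mem hx hy, ?_⟩
    obtain ⟨w, hw, hxy⟩ := hB0comm x hx y hy
    rw [mul_pow_class hxy (hcenA w hw x hx) (hcenA w hw y hy)]
    exact A.mul_mem (A.mul_mem hxp hyp) (A.pow_mem hw _)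
  · constructor
    rintro x ⟨hx, hxp⟩ g
    refine ⟨(inferInstance : (dser N j ⊔ A).Normal).conj_mem x hx g, ?_⟩
    rw [conj_pow]
    exact hAn.conj_mem _ hxp g
  · intro a ha
    exact ⟨le_sup_right (a := dser N j) ha, A.pow_mem ha p⟩
  · intro b hb
    exact (sup_le hjN hAN) hb.1
  · intro hle
    set n' := orderOf (QuotientGroup.mk' A y) with hn'
    have hn0 : 0 < n' := orderOf_pos _
    have hdiv : n' / p * p = n' := Nat.div_mul_cancel hpo
    have h1 : y ^ (n' / p) ∈ A := by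
      apply hle
      refine ⟨le_sup_left (b := A) (Subgroup.pow_mem _ hy _), ?_⟩
      rw [← pow_mul, hdiv]
      have h2 : (QuotientGroup.mk' A y) ^ n' = 1 := pow_orderOf_eq_one _
      rw [← map_pow] at h2
      exact (QuotientGroup.eq_one_iff _).1 h2
    have h2 : (QuotientGroup.mk' A y) ^ (n' / p) = 1 := by
      rw [← map_pow]
      exact (QuotientGroup.eq_one_iff _).2 h1
    have h3 := orderOf_dvd_of_pow_eq_one h2
    have h4 : n' / p < n' := Nat.div_lt_self hn0 hp.one_lt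
    have h5 : 0 < n' / p := Nat.div_pos (Nat.le_of_dvd hn0 hpo) hp.pos
    exact absurd (Nat.le_of_dvd h5 h3) (by omega)

theorem exists_nat_dvd {p : ℕ} (hp : p.Prime) {s : ℤ} (hs : ¬ (p : ℤ) ∣ s) (t : ℤ) :
    ∃ i : ℕ, (p : ℤ) ∣ s * i + t := by
  have : Fact p.Prime := ⟨hp⟩
  have hs' : (s : ZMod p) ≠ 0 := by
    intro h
    exact hs ((ZMod.intCast_zmod_eq_zero_iff_dvd s p).1 h)
  refine ⟨(-(t : ZMod p) * (s : ZMod p)⁻¹).val, ?_⟩
  rw [← ZMod.intCast_zmod_eq_zero_iff_dvd]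
  push_cast
  rw [ZMod.natCast_zmod_val]
  field_simp
  ring

/-- the prime is two -/
theorem key (h : GT G) (hA : MaxAb A) {B : Subgroup G} {p : ℕ} (hp : p.Prime) (hB : B.Normal)
    (hAB : A ≤ B) (hBC : B ≤ Subgroup.centralizer (A : Set G)) (hne : ¬ B ≤ A) (hpow : ∀ b ∈ B, b ^ p ∈ A)
    (hcomm : ∀ x ∈ B, ∀ y ∈ B, ∃ w ∈ A, y * x = x * y * w) :
    p = 2 ∧ ∃ w ∈ A, w ≠ 1 ∧ w * w = 1 ∧ (∃ x ∈ B, x ∉ A ∧ x * x = w) ∧ ∃ b ∈ B, ∃ c ∈ B, c * b ≠ b * c := by
  classical
  have hcen : ∀ x ∈ B, ∀ a ∈ A, a * x = x * a := fun x hx a ha => Subgroup.mem_centralizer_iff.1 (hBC hx) a ha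
  obtain ⟨b, hb, c, hc, hbc⟩ : ∃ b ∈ B, ∃ c ∈ B, c * b ≠ b * c := by
    by_contra hcon
    push Not at hcon
    exact hne (hA.max B hB (fun a ha b hb => hcon b hb a ha) hAB).le
  obtain ⟨w, hw, hcb⟩ := hcomm b hb c hc
  have hwb := hcen b hb w hw
  have hwc := hcen c hc w hw
  have hw1 : w ≠ 1 := by
    rintro rfl
    exact hbc (by rw [hcb, mul_one])
  have hwp : w ^ p = 1 := by
    have h1 := comm_pow_right hcb hwb p
    have h2 := hcen c hc _ (hpow b hb)
    rw [← h2] at h1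
    exact (mul_eq_left.1 h1.symm)
  -- elements of `B` outside `A` do not have order `p`
  have hP1 : ∀ x ∈ B, x ∉ A → x ^ p = 1 → False := by
    intro x hx hxA hxp
    have h1 := h.uniq p hp x w (hcen x hx w hw).symm hxp hwp hw1
    exact hxA ((Subgroup.zpowers_le.2 hw) h1)
  obtain ⟨⟨g, hg⟩, hgen⟩ := (h.cyc A hA.normal hA.ab).exists_generator
  have hgen' : ∀ a ∈ A, ∃ s : ℤ, a = g ^ s := by
    intro a ha
    obtain ⟨s, hs⟩ := hgen ⟨a, ha⟩
    exact ⟨s, (congrArg Subtype.val hs).symm⟩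
  have hgA : ∀ r : ℤ, g ^ r ∈ A := fun r => A.zpow_mem hg r
  obtain ⟨s, hs⟩ := hgen' _ (hpow b hb)
  obtain ⟨t, ht⟩ := hgen' _ (hpow c hc)
  have hbA : b ∉ A := fun h1 => hbc (hcen c hc b h1).symm
  by_cases hps : (p : ℤ) ∣ s
  · exfalso
    obtain ⟨r, rfl⟩ := hps
    apply hP1 (b * g ^ (-r)) (B.mul_mem hb (hAB (hgA _)))
    · intro h1
      exact hbA ((A.mul_mem_cancel_right (hgA _)).1 h1)
    · have h1 : Commute b (g ^ (-r)) := (hcen b hb _ (hgA _)).symm
      rw [h1.mul_pow, hs, ← zpow_natCast, ← zpow_mul, ← zpow_add]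
      have : (p : ℤ) * r + -r * (p : ℤ) = 0 := by ring
      rw [this, zpow_zero]
  obtain ⟨i, r, hr⟩ := exists_nat_dvd hp hps t
  have hbi : b ^ i ∈ B := B.pow_mem hb i
  have h1 : c * b ^ i = b ^ i * c * w ^ i := comm_pow_right hcb hwb i
  have hwi : w ^ i ∈ A := A.pow_mem hw i
  have h2 := mul_pow_class h1 (hcen _ hbi _ hwi) (hcen _ hc _ hwi) p
  have h3 : (b ^ i * c) ^ p = g ^ ((p : ℤ) * r) * (w ^ i) ^ (p.choose 2) := by
    rw [h2, ← hr, zpow_add, mul_comm s, zpow_mul, zpow_natCast, ← ht]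
    congr 2
    rw [← pow_mul, mul_comm i p, pow_mul, hs, ← zpow_natCast, ← zpow_natCast, ← zpow_mul, ← zpow_mul, mul_comm]
  have hx : (b ^ i * c * g ^ (-r)) ^ p = (w ^ i) ^ (p.choose 2) := by
    have h4 : Commute (b ^ i * c) (g ^ (-r)) := (hcen _ (B.mul_mem hbi hc) _ (hgA _)).symm
    rw [h4.mul_pow, h3]
    have h5 : Commute ((w ^ i) ^ (p.choose 2)) ((g ^ (-r)) ^ p) :=
      hA.ab _ (A.pow_mem hwi _) _ (A.pow_mem (hgA _) _)
    rw [mul_assoc, h5.eq, ← mul_assoc]
    have h6 : g ^ ((p : ℤ) * r) * (g ^ (-r)) ^ p = 1 := by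
      rw [← zpow_natCast, ← zpow_mul, ← zpow_add]
      have : (p : ℤ) * r + -r * (p : ℤ) = 0 := by ring
      rw [this, zpow_zero]
    rw [h6, one_mul]
  have hxB : b ^ i * c * g ^ (-r) ∈ B := B.mul_mem (B.mul_mem hbi hc) (hAB (hgA _))
  have hxA : b ^ i * c * g ^ (-r) ∉ A := by
    intro h4
    have h5 : b ^ i * c ∈ A := (A.mul_mem_cancel_right (hgA _)).1 h4
    have h6 := hcen b hb _ h5
    apply hbc
    have h7 : b ^ i * (c * b) = b ^ i * (b * c) := by
      calc b ^ i * (c * b) = b ^ i * c * b := by group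
        _ = b * (b ^ i * c) := h6
        _ = (b * b ^ i) * c := by group
        _ = (b ^ i * b) * c := by rw [← pow_succ', ← pow_succ]
        _ = b ^ i * (b * c) := by group
    exact mul_left_cancel h7
  have hp2 : p = 2 := by
    by_contra hp2
    apply hP1 _ hxB hxA
    rw [hx]
    have h4 : 2 < p := lt_of_le_of_ne hp.two_le (Ne.symm hp2)
    obtain ⟨m, hm⟩ := hp.dvd_choose_self (by norm_num : (2 : ℕ) ≠ 0) h4
    rw [hm, ← pow_mul, mul_comm i, mul_assoc, pow_mul, hwp, one_pow]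
  subst hp2
  refine ⟨rfl, w, hw, hw1, by rw [← pow_two]; exact hwp, ⟨_, hxB, hxA, ?_⟩, b, hb, c, hc, hbc⟩
  rw [← pow_two, hx, Nat.choose_self, pow_one]
  rcases Nat.even_or_odd i with hi | hi
  · exfalso
    apply hP1 _ hxB hxA
    rw [hx, Nat.choose_self, pow_one]
    obtain ⟨j, rfl⟩ := hi
    rw [← two_mul, pow_mul, hwp, one_pow]
  · obtain ⟨j, rfl⟩ := hi
    rw [pow_add, pow_mul, hwp, one_pow, one_mul, pow_one]

end Cfsg.Agent.H349.RegGrp
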