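import Mathlib

/-!
# Normal subgroups of index two (helper349)
-/

set_option autoImplicit false

namespace Cfsg.Agent.H349.RegIdx

variable {G : Type*} [Group G]

theorem of_hom [Finite G] {H : Type*} [CommGroup H] [Finite H] [IsCyclic H] (f : G →* H)
    (hf : Function.Surjective f) (h : 2 ∣ Nat.card H) : ∃ N : Subgroup G, N.Normal ∧ N.index = 2 := by
  obtain ⟨n, hn⟩ := h
  have h0 : 0 < Nat.card H := Nat.card_pos
  refine ⟨((powMonoidHom n).comp f).ker, inferInstance, ?_⟩
  rw [Subgroup.index_ker]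
  have h1 : ((powMonoidHom n).comp f).range = (powMonoidHom n : H →* H).range := by
    rw [MonoidHom.range_comp, MonoidHom.range_eq_top.2 hf, ← MonoidHom.range_eq_map]
  rw [h1, IsCyclic.card_powMonoidHom_range, hn, Nat.gcd_mul_left_left]
  exact Nat.mul_div_cancel _ (by omega)

theorem of_cyclic [Finite G] (C : Subgroup G) [C.Normal] [hC : IsCyclic C] [hGC : IsCyclic (G ⧸ C)]
    (h : 2 ∣ Nat.card G) : ∃ N : Subgroup G, N.Normal ∧ N.index = 2 := by
  classical
  by_cases h1 : 2 ∣ Nat.card (G ⧸ C)
  · letI : CommGroup (G ⧸ C) := IsCyclic.commGroup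
    exact of_hom (QuotientGroup.mk' C) (QuotientGroup.mk'_surjective C) h1
  · have : Fact (Nat.Prime 2) := ⟨Nat.prime_two⟩
    obtain ⟨P⟩ : Nonempty (Sylow 2 G) := inferInstance
    have hPC : (P : Subgroup G) ≤ C := by
      intro x hx
      obtain ⟨k, hk⟩ := P.isPGroup' ⟨x, hx⟩
      have h2 : x ^ 2 ^ k = 1 := congrArg Subtype.val hk
      have h3 : (x : G ⧸ C) ^ 2 ^ k = 1 := by
        rw [← QuotientGroup.mk_pow, h2]; rfl
      have h4 : orderOf (x : G ⧸ C) ∣ Nat.card (G ⧸ C) := orderOf_dvd_natCard _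
      have h5 := orderOf_dvd_of_pow_eq_one h3
      have h6 : Nat.Coprime (2 ^ k) (Nat.card (G ⧸ C)) :=
        Nat.Coprime.pow_left k ((Nat.prime_two.coprime_iff_not_dvd).2 h1)
      have h7 := Nat.dvd_gcd h5 h4
      rw [h6] at h7
      have h8 : orderOf (x : G ⧸ C) = 1 := Nat.dvd_one.1 h7
      rw [orderOf_eq_one_iff] at h8
      exact (QuotientGroup.eq_one_iff x).1 h8
    have hPcyc : IsCyclic P := isCyclic_of_injective (Subgroup.inclusion hPC) (Subgroup.inclusion_injective hPC)
    have hmin : (Nat.card G).minFac = 2 := (Nat.minFac_eq_two_iff _).2 h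
    have hcom := hPcyc.isComplement' hmin
    set f := MonoidHom.transferSylow P (hPcyc.normalizer_le_centralizer hmin) with hf
    have hsurj : Function.Surjective f := by
      rw [← MonoidHom.range_eq_top]
      apply Subgroup.eq_top_of_card_eq
      rw [← Subgroup.index_ker]
      exact hcom.symm.index_eq_card
    letI : CommGroup P := IsCyclic.commGroup
    have h2 : 2 ∣ Nat.card P := by
      have := P.dvd_card_of_dvd_card h
      exact this
    exact of_hom f hsurj h2

end Cfsg.Agent.H349.RegIdx
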