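import Cfsg.Agent.H349.RegStr

/-!
# The quotient of `C_G(A)` by `B` embeds in `S_3` (helper349)
-/

set_option autoImplicit false

namespace Cfsg.Agent.H349.RegQuot

open Cfsg.Agent.H349.RegGrp Cfsg.Agent.H349.RegStr

variable {G : Type*} [Group G] {A B : Subgroup G} {z b c : G}

section

theorem bA (hS : Str A B z b c) : b ∉ A := fun h => hS.no4 b h hS.bb

theorem cA (hS : Str A B z b c) : c ∉ A := fun h => hS.no4 c h hS.cc

theorem comm_of (hS : Str A B z b c) {x : G} (hx : x ∈ B) {a : G} (ha : a ∈ A) : a * x = x * a :=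
  Subgroup.mem_centralizer_iff.1 (hS.BC hx) a ha

theorem bcbc (hS : Str A B z b c) : b * c * (b * c) = z := by
  calc b * c * (b * c) = b * (c * b) * c := by group
    _ = (b * b) * c * (z * c) := by rw [hS.cb]; group
    _ = z * c * (c * z) := by rw [hS.bb, comm_of hS hS.cB hS.zA]
    _ = z * (c * c) * z := by group
    _ = z := by rw [hS.cc, hS.zz, one_mul]

theorem bcA (hS : Str A B z b c) : b * c ∉ A := fun h => hS.no4 _ h (bcbc hS)

theorem cb_ne (hS : Str A B z b c) : c * b ≠ b * c := by
  intro h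
  have h1 := hS.cb
  rw [h] at h1
  exact hS.z1 (mul_eq_left.1 h1.symm)

/-- the three non-trivial cosets -/
def X3 (A : Subgroup G) [A.Normal] (b c : G) : Set (G ⧸ A) :=
  {(b : G ⧸ A), (c : G ⧸ A), ((b * c : G) : G ⧸ A)}

variable [hAn : A.Normal]

theorem mem_X3 (hS : Str A B z b c) (x : G ⧸ A) :
    x ∈ X3 A b c ↔ ∃ y ∈ B, y ∉ A ∧ (y : G ⧸ A) = x := by
  constructor
  · rintro (rfl | rfl | rfl)
    · exact ⟨b, hS.bB, bA hS, rfl⟩
    · exact ⟨c, hS.cB, cA hS, rfl⟩
    · exact ⟨b * c, B.mul_mem hS.bB hS.cB, bcA hS, rfl⟩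
  · rintro ⟨y, hy, hyA, rfl⟩
    rcases hS.gen y hy with h1 | ⟨a, ha, h1⟩
    · exact absurd h1 hyA
    · have h2 : ∀ x : G, ((x * a : G) : G ⧸ A) = (x : G ⧸ A) := by
        intro x
        rw [QuotientGroup.mk_mul, (QuotientGroup.eq_one_iff a).2 ha, mul_one]
      rcases h1 with rfl | rfl | rfl
      · left; exact h2 b
      · right; left; exact h2 c
      · right; right; exact h2 (b * c)

theorem conj_mem (hS : Str A B z b c) (g : G) {x : G ⧸ A} (hx : x ∈ X3 A b c) :
    (g : G ⧸ A) * x * (g : G ⧸ A)⁻¹ ∈ X3 A b c := by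
  rw [mem_X3 hS] at hx ⊢
  obtain ⟨y, hy, hyA, rfl⟩ := hx
  refine ⟨g * y * g⁻¹, hS.Bn.conj_mem y hy g, ?_, ?_⟩
  · intro h1
    apply hyA
    have h2 := hAn.conj_mem _ h1 g⁻¹
    have h3 : g⁻¹ * (g * y * g⁻¹) * g⁻¹⁻¹ = y := by group
    rwa [h3] at h2
  · rfl

/-- the conjugation action on the three cosets -/
def conjPerm (hS : Str A B z b c) : G →* Equiv.Perm (X3 A b c) :=
  MonoidHom.mk' (fun g =>
    { toFun := fun x => ⟨(g : G ⧸ A) * x.1 * (g : G ⧸ A)⁻¹, conj_mem hS g x.2⟩
      invFun := fun x => ⟨((g⁻¹ : G) : G ⧸ A) * x.1 * ((g⁻¹ : G) : G ⧸ A)⁻¹, conj_mem hS g⁻¹ x.2⟩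
      left_inv := fun x => by
        apply Subtype.ext
        simp only [QuotientGroup.mk_inv]
        group
      right_inv := fun x => by
        apply Subtype.ext
        simp only [QuotientGroup.mk_inv]
        group })
    (fun g k => by
      ext x
      simp only [Equiv.coe_fn_mk, Equiv.Perm.coe_mul, Function.comp, QuotientGroup.mk_mul]
      group)

theorem conjPerm_apply (hS : Str A B z b c) (g : G) (x : X3 A b c) :
    ((conjPerm hS g x : X3 A b c) : G ⧸ A) = (g : G ⧸ A) * x.1 * (g : G ⧸ A)⁻¹ := rfl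

theorem ncard_X3 (hS : Str A B z b c) : (X3 A b c).ncard = 3 := by
  rw [Set.ncard_eq_three]
  refine ⟨_, _, _, ?_, ?_, ?_, rfl⟩
  · intro h1
    rw [QuotientGroup.eq] at h1
    apply cb_ne hS
    have h2 := comm_of hS hS.bB h1
    calc c * b = b * ((b⁻¹ * c) * b) := by group
      _ = b * (b * (b⁻¹ * c)) := by rw [h2]
      _ = b * c := by group
  · intro h1
    rw [QuotientGroup.eq] at h1
    have h2 : b⁻¹ * (b * c) = c := by group
    rw [h2] at h1
    exact cA hS h1
  · intro h1
    rw [QuotientGroup.eq] at h1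
    have h2 := hAn.conj_mem _ h1 c
    have h3 : c * (c⁻¹ * (b * c)) * c⁻¹ = b := by group
    rw [h3] at h2
    exact bA hS h2

theorem one_notMem_X3 (hS : Str A B z b c) : (1 : G ⧸ A) ∉ X3 A b c := by
  intro h1
  obtain ⟨y, -, hyA, hy⟩ := (mem_X3 hS 1).1 h1
  exact hyA ((QuotientGroup.eq_one_iff y).1 hy)

theorem card_B (hS : Str A B z b c) : Nat.card B = 4 * Nat.card A := by
  have h1 := ((QuotientGroup.mk' A).comp B.subtype).ker.index_mul_card
  rw [Subgroup.index_ker] at h1
  have h2 : ((QuotientGroup.mk' A).comp B.subtype).ker = A.subgroupOf B := by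
    ext x
    rw [MonoidHom.mem_ker, Subgroup.mem_subgroupOf]
    exact QuotientGroup.eq_one_iff x.1
  have h3 : Nat.card (A.subgroupOf B) = Nat.card A := Nat.card_congr (Subgroup.subgroupOfEquivOfLe hS.AB).toEquiv
  have h4 : ((((QuotientGroup.mk' A).comp B.subtype).range : Subgroup (G ⧸ A)) : Set (G ⧸ A)) =
      insert 1 (X3 A b c) := by
    ext x
    rw [SetLike.mem_coe, Set.mem_insert_iff, mem_X3 hS]
    constructor
    · rintro ⟨y, rfl⟩
      by_cases hy : y.1 ∈ A
      · left
        exact (QuotientGroup.eq_one_iff y.1).2 hy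
      · right
        exact ⟨y.1, y.2, hy, rfl⟩
    · rintro (rfl | ⟨y, hy, -, rfl⟩)
      · exact one_mem _
      · exact ⟨⟨y, hy⟩, rfl⟩
  have h5 : Nat.card ((QuotientGroup.mk' A).comp B.subtype).range = 4 := by
    have h6 : Nat.card ((QuotientGroup.mk' A).comp B.subtype).range =
      ((((QuotientGroup.mk' A).comp B.subtype).range : Subgroup (G ⧸ A)) : Set (G ⧸ A)).ncard := rfl
    rw [h6, h4, Set.ncard_insert_of_notMem (one_notMem_X3 hS) (Set.finite_of_ncard_ne_zero (by rw [ncard_X3 hS]; norm_num)),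
      ncard_X3 hS]
  rw [h2, h3, h5] at h1
  exact h1.symm

/-- elements of `C_G(A)` acting trivially on the three cosets -/
theorem mem_B_of (hS : Str A B z b c) {g : G} (hg : g ∈ Subgroup.centralizer (A : Set G))
    (hb : (g : G ⧸ A) * (b : G ⧸ A) * (g : G ⧸ A)⁻¹ = b) (hc : (g : G ⧸ A) * (c : G ⧸ A) * (g : G ⧸ A)⁻¹ = c) :
    g ∈ B := by
  have hgA : ∀ a ∈ A, a * g = g * a := fun a ha => Subgroup.mem_centralizer_iff.1 hg a ha
  have hz : z ∈ A := hS.zA
  -- the general statement on `y = b, c`
  have hy : ∀ y ∈ B, y * y = z → (g : G ⧸ A) * (y : G ⧸ A) * (g : G ⧸ A)⁻¹ = y →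
      g * y = y * g ∨ g * y = y * g * z := by
    intro y hy hyy h1
    have h2 : ((y : G) : G ⧸ A) = ((g * y * g⁻¹ : G) : G ⧸ A) := by
      rw [QuotientGroup.mk_mul, QuotientGroup.mk_mul, QuotientGroup.mk_inv, h1]
    rw [QuotientGroup.eq] at h2
    set a := y⁻¹ * (g * y * g⁻¹) with ha
    have h3 : g * y = y * g * a := by
      calc g * y = y * (y⁻¹ * (g * y * g⁻¹)) * g := by group
        _ = y * (a * g) := by rw [← ha]; group
        _ = y * g * a := by rw [hgA a h2]; group
    have h4 := comm_pow_right h3 (comm_of hS hy h2) 2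
    rw [pow_two, hyy, ← hgA z hz] at h4
    have h5 : a ^ 2 = 1 := mul_eq_left.1 h4.symm
    rw [pow_two] at h5
    rcases hS.zu a h2 h5 with h6 | h6
    · left; rw [h3, h6, mul_one]
    · right; rw [h3, h6]
  -- elements commuting with `b`, `c`
  have hA : ∀ x : G, (∀ a ∈ A, a * x = x * a) → x * b = b * x → x * c = c * x → x ∈ A := by
    intro x hx hxb hxc
    apply hS.cen
    intro y hy
    rcases hS.gen y hy with h1 | ⟨a, ha, rfl | rfl | rfl⟩
    · exact (hx y h1).symm
    · calc x * (b * a) = (x * b) * a := by group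
        _ = b * (x * a) := by rw [hxb]; group
        _ = b * a * x := by rw [← hx a ha]; group
    · calc x * (c * a) = (x * c) * a := by group
        _ = c * (x * a) := by rw [hxc]; group
        _ = c * a * x := by rw [← hx a ha]; group
    · calc x * (b * c * a) = (x * b) * c * a := by group
        _ = b * (x * c) * a := by rw [hxb]; group
        _ = b * c * (x * a) := by rw [hxc]; group
        _ = b * c * a * x := by rw [← hx a ha]; group
  have hbz : z * b = b * z := comm_of hS hS.bB hz
  have hcz : z * c = c * z := comm_of hS hS.cB hz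
  have hcb := hS.cb
  have hcb' : b * c = c * b * z := by
    calc b * c = b * c * (z * z) := by rw [hS.zz, mul_one]
      _ = b * c * z * z := by group
      _ = c * b * z := by rw [← hcb]
  have hgz : z * g = g * z := hgA z hz
  have hmulA : ∀ y ∈ B, ∀ a ∈ A, a * (g * y) = (g * y) * a := by
    intro y hy a ha
    calc a * (g * y) = (a * g) * y := by group
      _ = g * (a * y) := by rw [hgA a ha]; group
      _ = (g * y) * a := by rw [comm_of hS hy ha]; group
  have hfin : ∀ y ∈ B, g * y ∈ A → g ∈ B := by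
    intro y hy h1
    exact (B.mul_mem_cancel_right hy).1 (hS.AB h1)
  rcases hy b hS.bB hS.bb hb with h1 | h1 <;> rcases hy c hS.cB hS.cc hc with h2 | h2
  · exact hS.AB (hA g hgA h1 h2)
  · apply hfin b hS.bB
    apply hA _ (hmulA b hS.bB)
    · calc g * b * b = (b * g) * b := by rw [h1]
        _ = b * (g * b) := by group
    · calc g * b * c = g * (c * b * z) := by rw [← hcb']; group
        _ = (g * c) * (b * z) := by group
        _ = c * g * (z * b) * z := by rw [h2]; group
        _ = c * (g * b) * (z * z) := by rw [hbz]; group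
        _ = c * (g * b) := by rw [hS.zz, mul_one]
  · apply hfin c hS.cB
    apply hA _ (hmulA c hS.cB)
    · calc g * c * b = g * (b * c * z) := by rw [← hcb]; group
        _ = (g * b) * (c * z) := by group
        _ = b * g * (z * c) * z := by rw [h1]; group
        _ = b * (g * c) * (z * z) := by rw [hcz]; group
        _ = b * (g * c) := by rw [hS.zz, mul_one]
    · calc g * c * c = (c * g) * c := by rw [h2]
        _ = c * (g * c) := by group
  · apply hfin (b * c) (B.mul_mem hS.bB hS.cB)
    apply hA _ (hmulA _ (B.mul_mem hS.bB hS.cB))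
    · calc g * (b * c) * b = (g * b) * (c * b) := by group
        _ = (b * g * z) * (b * c * z) := by rw [h1, hcb]
        _ = b * g * (z * b) * c * z := by group
        _ = b * g * b * (z * c) * z := by rw [hbz]; group
        _ = b * (g * (b * c)) * (z * z) := by rw [hcz]; group
        _ = b * (g * (b * c)) := by rw [hS.zz, mul_one]
    · calc g * (b * c) * c = g * (c * b * z) * c := by rw [← hcb']
        _ = (g * c) * b * (z * c) := by group
        _ = (c * g * z) * b * (c * z) := by rw [h2, hcz]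
        _ = c * g * (z * b) * c * z := by group
        _ = c * g * b * (z * c) * z := by rw [hbz]; group
        _ = c * (g * (b * c)) * (z * z) := by rw [hcz]; group
        _ = c * (g * (b * c)) := by rw [hS.zz, mul_one]

/-- elements of `B` act trivially -/
theorem conj_of_mem_B (hS : Str A B z b c) {g : G} (hg : g ∈ B) {x : G ⧸ A} (hx : x ∈ X3 A b c) :
    (g : G ⧸ A) * x * (g : G ⧸ A)⁻¹ = x := by
  have hcb : (c : G ⧸ A) * (b : G ⧸ A) = (b : G ⧸ A) * (c : G ⧸ A) := by
    rw [← QuotientGroup.mk_mul, ← QuotientGroup.mk_mul, hS.cb, QuotientGroup.mk_mul A (b * c) z,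
      (QuotientGroup.eq_one_iff z).2 hS.zA, mul_one]
  have hcom : ∀ x ∈ X3 A b c, ∀ y ∈ X3 A b c, x * y = y * x := by
    rintro x (rfl | rfl | rfl) y (rfl | rfl | rfl)
    · rfl
    · exact hcb.symm
    · rw [QuotientGroup.mk_mul, mul_assoc, hcb]
    · exact hcb
    · rfl
    · rw [QuotientGroup.mk_mul, ← mul_assoc, hcb]
    · rw [QuotientGroup.mk_mul, mul_assoc, hcb]
    · rw [QuotientGroup.mk_mul, ← mul_assoc, hcb]
    · rfl
  by_cases hgA : g ∈ A
  · rw [(QuotientGroup.eq_one_iff g).2 hgA]
    simp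
  · have h1 := hcom _ ((mem_X3 hS (g : G ⧸ A)).2 ⟨g, hg, hgA, rfl⟩) x hx
    rw [h1, mul_assoc, mul_inv_cancel, mul_one]

theorem card_data [Finite G] (hS : Str A B z b c) :
    ∃ s, s ∣ 6 ∧ Nat.card (Subgroup.centralizer (A : Set G)) = s * (4 * Nat.card A) ∧
      (2 ∣ s → ∃ N : Subgroup G, N.Normal ∧ N.index = 2) := by
  classical
  set C := Subgroup.centralizer (A : Set G) with hC
  set f := (conjPerm hS).comp C.subtype with hf
  have hker : f.ker = B.subgroupOf C := by
    ext g
    rw [MonoidHom.mem_ker, Subgroup.mem_subgroupOf]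
    constructor
    · intro h1
      apply mem_B_of hS g.2
      · have h2 := conjPerm_apply hS g.1 ⟨(b : G ⧸ A), Or.inl rfl⟩
        have h3 : conjPerm hS g.1 = 1 := h1
        rw [h3] at h2
        exact h2.symm
      · have h2 := conjPerm_apply hS g.1 ⟨(c : G ⧸ A), Or.inr (Or.inl rfl)⟩
        have h3 : conjPerm hS g.1 = 1 := h1
        rw [h3] at h2
        exact h2.symm
    · intro h1
      apply Equiv.ext
      intro x
      apply Subtype.ext
      exact conj_of_mem_B hS h1 x.2
  have h1 := f.ker.index_mul_card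
  rw [Subgroup.index_ker, hker] at h1
  have h3 : Nat.card (B.subgroupOf C) = Nat.card B := Nat.card_congr (Subgroup.subgroupOfEquivOfLe hS.BC).toEquiv
  rw [h3, card_B hS] at h1
  have hX : Nat.card (X3 A b c) = 3 := ncard_X3 hS
  have hfin : Finite (X3 A b c) := Nat.finite_of_card_ne_zero (by rw [hX]; norm_num)
  have := Fintype.ofFinite (X3 A b c)
  have hP : Nat.card (Equiv.Perm (X3 A b c)) = 6 := by
    rw [Nat.card_perm, hX]; rfl
  refine ⟨Nat.card f.range, ?_, h1.symm, ?_⟩
  · rw [← hP]
    exact Subgroup.card_subgroup_dvd_card _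
  · intro hs
    by_cases hsg : ∀ g : G, Equiv.Perm.sign (conjPerm hS g) = 1
    · exfalso
      have h4 : f.range ≤ alternatingGroup (X3 A b c) := by
        rintro _ ⟨g, rfl⟩
        exact Equiv.Perm.mem_alternatingGroup.2 (hsg g.1)
      have h5 := Subgroup.card_dvd_of_le h4
      have : Nontrivial (X3 A b c) := by
        rw [← Fintype.one_lt_card_iff_nontrivial, ← Nat.card_eq_fintype_card, hX]
        norm_num
      have h6 : 2 * Nat.card (alternatingGroup (X3 A b c)) = Nat.card (Equiv.Perm (X3 A b c)) :=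
        two_mul_nat_card_alternatingGroup
      rw [hP] at h6
      have h7 : Nat.card (alternatingGroup (X3 A b c)) = 3 := by omega
      rw [h7] at h5
      have h8 := hs.trans h5
      omega
    · push Not at hsg
      obtain ⟨g, hg⟩ := hsg
      refine ⟨(Equiv.Perm.sign.comp (conjPerm hS)).ker, inferInstance, ?_⟩
      rw [Subgroup.index_ker]
      have h4 : (Equiv.Perm.sign.comp (conjPerm hS)).range = ⊤ := by
        rw [eq_top_iff]
        intro u _
        rcases Int.units_eq_one_or u with rfl | rfl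
        · exact one_mem _
        · exact ⟨g, (Int.units_eq_one_or _).resolve_left hg⟩
      rw [h4]
      rw [Nat.card_congr (Subgroup.topEquiv).toEquiv, Nat.card_eq_fintype_card]
      rfl

end

end Cfsg.Agent.H349.RegQuot
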