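import Cfsg.Agent.H349.RegGrp

/-!
# Solvable groups with cyclic abelian subgroups: the quaternion part (helper349)
-/

set_option autoImplicit false

namespace Cfsg.Agent.H349.RegStr

open Cfsg.Agent.H349.RegGrp

variable {G : Type*} [Group G] {A B : Subgroup G} {z b c : G}

/-- the structure of `C_G(A)` -/
structure Str (A B : Subgroup G) (z b c : G) : Prop where
  Bn : B.Normal
  AB : A ≤ B
  BC : B ≤ Subgroup.centralizer (A : Set G)
  zA : z ∈ A
  z1 : z ≠ 1
  zz : z * z = 1
  zu : ∀ a ∈ A, a * a = 1 → a = 1 ∨ a = z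
  no4 : ∀ a ∈ A, a * a ≠ z
  bB : b ∈ B
  cB : c ∈ B
  bb : b * b = z
  cc : c * c = z
  cb : c * b = b * c * z
  gen : ∀ x ∈ B, x ∈ A ∨ ∃ a ∈ A, x = b * a ∨ x = c * a ∨ x = b * c * a
  cen : ∀ x, (∀ y ∈ B, x * y = y * x) → x ∈ A

theorem mem_zp {a z : G} (hz : z * z = 1) (h : a ∈ Subgroup.zpowers z) : a = 1 ∨ a = z := by
  obtain ⟨n, rfl⟩ := Subgroup.mem_zpowers_iff.1 h
  have hz2 : z ^ (2 : ℤ) = 1 := by rw [zpow_ofNat, pow_two]; exact hz
  rcases Int.even_or_odd n with ⟨k, rfl⟩ | ⟨k, rfl⟩
  · left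
    rw [← two_mul, zpow_mul, hz2, one_zpow]
  · right
    rw [zpow_add, zpow_mul, hz2, one_zpow, one_mul, zpow_one]

/-- commuting elements with square `z` -/
theorem mul_mem_of {x y z : G} (h : GT G) (hz : z * z = 1) (hz1 : z ≠ 1) (hxy : x * y = y * x) (hx : x * x = z)
    (hy : y * y = z) : x * y = 1 ∨ x * y = z := by
  apply mem_zp hz
  apply h.uniq 2 Nat.prime_two (x * y) z
  · calc x * y * z = x * y * (x * x) := by rw [hx]
      _ = x * (y * x) * x := by group
      _ = x * (x * y) * x := by rw [hxy]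
      _ = (x * x) * (y * x) := by group
      _ = z * (x * y) := by rw [hx, hxy]
  · rw [pow_two]
    calc x * y * (x * y) = x * (y * x) * y := by group
      _ = x * (x * y) * y := by rw [hxy]
      _ = (x * x) * (y * y) := by group
      _ = 1 := by rw [hx, hy, hz]
  · rw [pow_two]; exact hz
  · exact hz1

theorem exists_str [Finite G] (hsol : Group.IsSolvable G) (h : GT G) (hA : MaxAb A)
    (hC : ¬ Subgroup.centralizer (A : Set G) ≤ A) : ∃ (B : Subgroup G) (z b c : G), Str A B z b c := by
  classical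
  have hAn := hA.normal
  have hAC : A ≤ Subgroup.centralizer (A : Set G) := fun a ha =>
    Subgroup.mem_centralizer_iff.2 fun x hx => hA.ab x hx a ha
  obtain ⟨B, p, hp, hBn, hAB, hBC, hBA, hpow, hcomm⟩ := exists_step hsol hA (N := Subgroup.centralizer (A : Set G))
    inferInstance hAC le_rfl hC
  obtain ⟨rfl, z, hzA, hz1, hzz, ⟨x0, hx0, hx0A, hx0z⟩, b0, hb0, c0, hc0, hbc0⟩ :=
    key h hA hp hBn hAB hBC hBA hpow hcomm
  have hcen : ∀ x ∈ B, ∀ a ∈ A, a * x = x * a := fun x hx a ha => Subgroup.mem_centralizer_iff.1 (hBC hx) a ha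
  have hzu : ∀ a ∈ A, a * a = 1 → a = 1 ∨ a = z := fun a ha haa =>
    mem_zp hzz (h.uniq 2 Nat.prime_two a z (hA.ab a ha z hzA) (by rw [pow_two]; exact haa) (by rw [pow_two]; exact hzz)
      hz1)
  have hz01 : ∀ y : G, y = 1 ∨ y = z → y ∈ A := by
    rintro y (rfl | rfl)
    · exact A.one_mem
    · exact hzA
  have hno4 : ∀ a ∈ A, a * a ≠ z := by
    intro a ha haz
    have h1 := hz01 _ (mul_mem_of h hzz hz1 (hcen x0 hx0 a ha).symm hx0z haz)
    exact hx0A ((A.mul_mem_cancel_right ha).1 h1)
  -- squares in `A`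
  obtain ⟨⟨g, hg⟩, hgen⟩ := (h.cyc A hA.normal hA.ab).exists_generator
  have hgen' : ∀ a ∈ A, ∃ s : ℤ, a = g ^ s := by
    intro a ha
    obtain ⟨s, hs⟩ := hgen ⟨a, ha⟩
    exact ⟨s, (congrArg Subtype.val hs).symm⟩
  have hgA : ∀ r : ℤ, g ^ r ∈ A := fun r => A.zpow_mem hg r
  have hsq : ∀ α ∈ A, ∃ a ∈ A, α = a * a ∨ α = z * (a * a) := by
    intro α hα
    obtain ⟨s, rfl⟩ := hgen' α hα
    obtain ⟨t, ht⟩ := hgen' z hzA
    rcases Int.even_or_odd s with ⟨k, rfl⟩ | ⟨k, hk⟩
    · exact ⟨g ^ k, hgA k, Or.inl (by rw [← zpow_add])⟩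
    · rcases Int.even_or_odd t with ⟨l, rfl⟩ | ⟨l, hl⟩
      · exfalso
        exact hno4 _ (hgA l) (by rw [ht, ← zpow_add])
      · refine ⟨g ^ (k - l), hgA _, Or.inr ?_⟩
        rw [ht, ← zpow_add, ← zpow_add]
        congr 1
        rw [hk, hl]; ring
  have hsqB : ∀ y ∈ B, y ∉ A → ∃ a ∈ A, (y * a) * (y * a) = z := by
    intro y hy hyA
    have hyy : y * y ∈ A := by rw [← pow_two]; exact hpow y hy
    obtain ⟨a, ha, hya⟩ := hsq _ hyy
    have h1 : ∀ a ∈ A, (y * a) * (y * a) = (y * y) * (a * a) := by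
      intro a ha
      calc (y * a) * (y * a) = y * (a * y) * a := by group
        _ = y * (y * a) * a := by rw [hcen y hy a ha]
        _ = (y * y) * (a * a) := by group
    refine ⟨a⁻¹, A.inv_mem ha, ?_⟩
    rw [h1 _ (A.inv_mem ha)]
    rcases hya with h2 | h2
    · exfalso
      have h3 : (y * a⁻¹) * (y * a⁻¹) = 1 := by
        rw [h1 _ (A.inv_mem ha), h2]; group
      have h4 : y * a⁻¹ ∈ Subgroup.zpowers z :=
        h.uniq 2 Nat.prime_two (y * a⁻¹) z (hcen _ (B.mul_mem hy (hAB (A.inv_mem ha))) z hzA).symm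
          (by rw [pow_two]; exact h3) (by rw [pow_two]; exact hzz) hz1
      have h5 := hz01 _ (mem_zp hzz h4)
      exact hyA ((A.mul_mem_cancel_right (A.inv_mem ha)).1 h5)
    · rw [h2]; group
  -- the elements `b`, `c`
  have hb0A : b0 ∉ A := fun h1 => hbc0 (hcen c0 hc0 b0 h1).symm
  have hc0A : c0 ∉ A := fun h1 => hbc0 (hcen b0 hb0 c0 h1)
  obtain ⟨a1, ha1, hb1⟩ := hsqB b0 hb0 hb0A
  obtain ⟨a2, ha2, hc1⟩ := hsqB c0 hc0 hc0A
  set b := b0 * a1 with hb
  set c := c0 * a2 with hc
  have hbB : b ∈ B := B.mul_mem hb0 (hAB ha1)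
  have hcB : c ∈ B := B.mul_mem hc0 (hAB ha2)
  have hbc : c * b ≠ b * c := by
    intro h1
    apply hbc0
    have e1 := hcen c0 hc0 a1 ha1
    have e2 := hcen b0 hb0 a2 ha2
    have e3 := hA.ab a1 ha1 a2 ha2
    have h2 : c0 * b0 * (a1 * a2) = b0 * c0 * (a1 * a2) := by
      calc c0 * b0 * (a1 * a2) = c0 * b0 * (a2 * a1) := by rw [e3]
        _ = c0 * (b0 * a2) * a1 := by group
        _ = (c0 * a2) * (b0 * a1) := by rw [← e2]; group
        _ = (b0 * a1) * (c0 * a2) := h1
        _ = b0 * (a1 * c0) * a2 := by group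
        _ = b0 * c0 * (a1 * a2) := by rw [e1]; group
    exact mul_right_cancel h2
  have hcb : c * b = b * c * z := by
    obtain ⟨w, hw, hcbw⟩ := hcomm b hbB c hcB
    have h1 := comm_pow_right hcbw (hcen b hbB w hw) 2
    rw [pow_two, hb1, hcen c hcB z hzA] at h1
    have h2 : w ^ 2 = 1 := (mul_eq_left.1 h1.symm)
    rw [pow_two] at h2
    rcases hzu w hw h2 with h3 | h3
    · exfalso
      rw [h3, mul_one] at hcbw
      exact hbc hcbw
    · rw [hcbw, h3]
  have hbA : b ∉ A := fun h1 => hbc (hcen c hcB b h1).symm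
  have hbz : b⁻¹ = b * z := by
    rw [inv_eq_iff_mul_eq_one]
    calc b * (b * z) = (b * b) * z := by group
      _ = 1 := by rw [hb1, hzz]
  have hcz : c⁻¹ = c * z := by
    rw [inv_eq_iff_mul_eq_one]
    calc c * (c * z) = (c * c) * z := by group
      _ = 1 := by rw [hc1, hzz]
  have hbz' : z * b = b * z := hcen b hbB z hzA
  have hcz' : z * c = c * z := hcen c hcB z hzA
  -- an element in `b⁻¹ {1, z}` does not commute with `c`
  have hnc : ∀ x : G, x * b = 1 ∨ x * b = z → x * c = c * x → False := by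
    intro x hx hxc
    apply hbc
    have h1 : ∃ y, (y * c = c * y) ∧ x = y * b⁻¹ := by
      rcases hx with h2 | h2
      · exact ⟨1, by rw [one_mul, mul_one], by rw [one_mul, eq_inv_of_mul_eq_one_left h2]⟩
      · exact ⟨z, hcz', by rw [← h2]; group⟩
    obtain ⟨y, hy, rfl⟩ := h1
    have h2 : y * (b⁻¹ * c) = y * (c * b⁻¹) := by
      calc y * (b⁻¹ * c) = y * b⁻¹ * c := by group
        _ = (c * y) * b⁻¹ := by rw [hxc]; group
        _ = y * (c * b⁻¹) := by rw [← hy]; group
    have h3 := mul_left_cancel h2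
    calc c * b = b * (b⁻¹ * c) * b := by group
      _ = b * (c * b⁻¹) * b := by rw [h3]
      _ = b * c := by group
  -- (K)
  have hK : ∀ y ∈ B, y * b = b * y → y * c = c * y → y ∈ A := by
    intro y hy hyb hyc
    by_contra hyA
    obtain ⟨a, ha, hya⟩ := hsqB y hy hyA
    have e1 := hcen b hbB a ha
    have e2 := hcen c hcB a ha
    have h1 : (y * a) * b = b * (y * a) := by
      calc (y * a) * b = y * (a * b) := by group
        _ = (y * b) * a := by rw [e1]; group
        _ = b * (y * a) := by rw [hyb]; group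
    have h2 : (y * a) * c = c * (y * a) := by
      calc (y * a) * c = y * (a * c) := by group
        _ = (y * c) * a := by rw [e2]; group
        _ = c * (y * a) := by rw [hyc]; group
    exact hnc _ (mul_mem_of h hzz hz1 h1 hya hb1) h2
  have hcb' : b * c = c * b * z := by
    calc b * c = b * c * (z * z) := by rw [hzz, mul_one]
      _ = b * c * z * z := by group
      _ = c * b * z := by rw [← hcb]
  refine ⟨B, z, b, c, hBn, hAB, hBC, hzA, hz1, hzz, hzu, hno4, hbB, hcB, hb1, hc1, hcb, ?_, ?_⟩
  · intro x hx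
    -- commutators of `x`
    have hcomz : ∀ y ∈ B, y * y = z → x * y = y * x ∨ x * y = y * x * z := by
      intro y hy hyz
      obtain ⟨w, hw, hxy⟩ := hcomm y hy x hx
      have h1 := comm_pow_right hxy (hcen y hy w hw) 2
      rw [pow_two, hyz, hcen x hx z hzA] at h1
      have h2 : w ^ 2 = 1 := (mul_eq_left.1 h1.symm)
      rw [pow_two] at h2
      rcases hzu w hw h2 with h3 | h3
      · left; rw [hxy, h3, mul_one]
      · right; rw [hxy, h3]
    have hxz : z * x = x * z := hcen x hx z hzA
    rcases hcomz b hbB hb1 with h1 | h1 <;> rcases hcomz c hcB hc1 with h2 | h2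
    · exact Or.inl (hK x hx h1 h2)
    · right
      -- `x b ∈ A`
      have h3 : x * b ∈ A := by
        apply hK _ (B.mul_mem hx hbB)
        · calc x * b * b = (b * x) * b := by rw [h1]
            _ = b * (x * b) := by group
        · calc x * b * c = x * (c * b * z) := by rw [← hcb']; group
            _ = (x * c) * b * z := by group
            _ = c * x * (z * b) * z := by rw [h2]; group
            _ = c * x * b * (z * z) := by rw [hbz']; group
            _ = c * (x * b) := by rw [hzz]; group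
      refine ⟨x * b * z, A.mul_mem h3 hzA, Or.inl ?_⟩
      have h4 := hcen b hbB _ h3
      calc x = (x * b) * b⁻¹ := by group
        _ = (x * b) * (b * z) := by rw [hbz]
        _ = (x * b * b) * z := by group
        _ = b * (x * b * z) := by rw [h4]; group
    · right
      have h3 : x * c ∈ A := by
        apply hK _ (B.mul_mem hx hcB)
        · calc x * c * b = x * (b * c * z) := by rw [← hcb]; group
            _ = (x * b) * c * z := by group
            _ = b * x * (z * c) * z := by rw [h1]; group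
            _ = b * x * c * (z * z) := by rw [hcz']; group
            _ = b * (x * c) := by rw [hzz]; group
        · calc x * c * c = (c * x) * c := by rw [h2]
            _ = c * (x * c) := by group
      refine ⟨x * c * z, A.mul_mem h3 hzA, Or.inr (Or.inl ?_)⟩
      have h4 := hcen c hcB _ h3
      calc x = (x * c) * c⁻¹ := by group
        _ = (x * c) * (c * z) := by rw [hcz]
        _ = (x * c * c) * z := by group
        _ = c * (x * c * z) := by rw [h4]; group
    · right
      have h3 : x * (c * b) ∈ A := by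
        apply hK _ (B.mul_mem hx (B.mul_mem hcB hbB))
        · calc x * (c * b) * b = x * (b * c * z) * b := by rw [← hcb]
            _ = (x * b) * c * (z * b) := by group
            _ = b * x * (z * c) * (z * b) := by rw [h1]; group
            _ = b * x * c * (z * z) * b := by rw [hcz']; group
            _ = b * (x * (c * b)) := by rw [hzz]; group
        · calc x * (c * b) * c = (x * c) * (b * c) := by group
            _ = (c * x * z) * (c * b * z) := by rw [h2, hcb']
            _ = c * x * (z * c) * b * z := by group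
            _ = c * x * c * (z * b) * z := by rw [hcz']; group
            _ = c * x * c * b * (z * z) := by rw [hbz']; group
            _ = c * (x * (c * b)) := by rw [hzz]; group
      have h4 := hcen b hbB _ h3
      have h5 := hcen c hcB _ h3
      refine ⟨x * (c * b), h3, Or.inr (Or.inr ?_)⟩
      calc x = (x * (c * b)) * (b⁻¹ * c⁻¹) := by group
        _ = (x * (c * b)) * (b * z * (c * z)) := by rw [hbz, hcz]
        _ = (x * (c * b)) * (b * (z * c) * z) := by group
        _ = (x * (c * b)) * (b * c * (z * z)) := by rw [hcz']; group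
        _ = (x * (c * b) * b) * c := by rw [hzz]; group
        _ = b * (x * (c * b) * c) := by rw [h4]; group
        _ = b * c * (x * (c * b)) := by rw [h5]; group
  · intro x hx
    by_contra hxA
    have hDn : (Subgroup.centralizer (B : Set G)).Normal := inferInstance
    have hxD : x ∈ Subgroup.centralizer (B : Set G) := Subgroup.mem_centralizer_iff.2 fun y hy => (hx y hy).symm
    have hAD : A ≤ Subgroup.centralizer (B : Set G) := fun a ha =>
      Subgroup.mem_centralizer_iff.2 fun y hy => (hcen y hy a ha).symm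
    have hDC : Subgroup.centralizer (B : Set G) ≤ Subgroup.centralizer (A : Set G) :=
      Subgroup.centralizer_le hAB
    obtain ⟨B', p', hp', hBn', hAB', hBD', hBA', hpow', hcomm'⟩ := exists_step hsol hA hDn hAD hDC
      (fun h1 => hxA (h1 hxD))
    obtain ⟨rfl, w, hwA, hw1, hww, ⟨y, hy, hyA, hyw⟩, -⟩ :=
      key h hA hp' hBn' hAB' (hBD'.trans hDC) hBA' hpow' hcomm'
    have hwz : w = z := (hzu w hwA hww).resolve_left hw1
    have hyD := Subgroup.mem_centralizer_iff.1 (hBD' hy)
    have h1 : y * b = b * y := (hyD b hbB).symm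
    have h2 : y * c = c * y := (hyD c hcB).symm
    exact hnc y (mul_mem_of h hzz hz1 h1 (hyw.trans hwz) hb1) h2

end Cfsg.Agent.H349.RegStr
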