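import Cfsg.Agent.H349.Red
import Cfsg.Agent.TwoESix.ClassIso
import Cfsg.Agent.OrdDiv.Table
import Cfsg.Agent.S0000

/-!
# Recognition of `²E_6(2)` (helper349)
-/

set_option autoImplicit false
open Cfsg

namespace Cfsg.Agent.H349.TwE

open Cfsg.Agent.Co2Type.Quad (Large)
open Cfsg.Agent.OrdDiv
open Subgroup (centralizer mem_centralizer_singleton_iff)

universe u

/-- change of the field with four elements -/
theorem field {G : Type*} [Group G] (h : Real (.te6 2) G) (F : Type*) [Field F] [Fintype F]
    (hF : Fintype.card F = 4) : Nonempty (G ≃* Lie.twistedE6 F 2) := by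
  obtain ⟨K, _, _, hK, ⟨e⟩⟩ := h
  obtain ⟨θ, -⟩ := TwoESix.ClassIso.exists_equiv K (by rw [hK]; norm_num)
  obtain ⟨θ', -⟩ := TwoESix.ClassIso.exists_equiv F hF
  exact ⟨(e.trans θ).trans θ'.symm⟩

/-- the theorem with `H` a subgroup of `C_G(z)` -/
theorem recog {G : Type u} [Group G] [Finite G] (z : G) (hz : orderOf z = 2)
    (hFQ : generalizedFittingSubgroup (centralizer ({z} : Set G)) = pCore 2 (centralizer ({z} : Set G)))
    (hex : IsExtraspecial 2 (pCore 2 (centralizer ({z} : Set G))))
    (hcard : Nat.card (pCore 2 (centralizer ({z} : Set G))) = 2 ^ 21)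
    (H : Subgroup (centralizer ({z} : Set G))) (hH : H.index = 1 ∨ H.index = 2)
    (hQH : pCore 2 (centralizer ({z} : Set G)) ≤ H) (F : Type*) [Field F] [Fintype F] (hF : Fintype.card F = 4)
    (φ : H →* PSU 6 F 2) (hφ : Function.Surjective φ)
    (hker : ∀ x : H, φ x = 1 ↔ (x : centralizer ({z} : Set G)) ∈ pCore 2 (centralizer ({z} : Set G)))
    (hnwc : ∃ g : G, g * z * g⁻¹ ∈ (pCore 2 (centralizer ({z} : Set G))).map (centralizer ({z} : Set G)).subtype ∧
      g * z * g⁻¹ ≠ z) :
    (generalizedFittingSubgroup G).index = H.index ∧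
      Nonempty (generalizedFittingSubgroup G ≃* Lie.twistedE6 F 2) := by
  have hL := LargeExtra.Base.large_of_genFitting z hz (by rw [hFQ]; exact hex)
  rw [hFQ] at hL
  have hnorm : H.Normal := by
    rcases hH with h | h
    · rw [Subgroup.index_eq_one] at h
      rw [h]; infer_instance
    · exact Subgroup.normal_of_index_eq_two h
  have hrel : (H.map (centralizer ({z} : Set G)).subtype).relIndex (centralizer ({z} : Set G)) = H.index := by
    rw [Subgroup.relIndex, Subgroup.subgroupOf, Subgroup.comap_map_eq_self_of_injective (Subgroup.subtype_injective _)]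
  have hyp : Red.Hyp ((pCore 2 (centralizer ({z} : Set G))).map (centralizer ({z} : Set G)).subtype) (H.map (centralizer ({z} : Set G)).subtype) z F :=
    { hF := hF
      large := hL
      card := by
        rw [← hcard]
        exact (Nat.card_congr ((pCore 2 (centralizer ({z} : Set G))).equivMapOfInjective (centralizer ({z} : Set G)).subtype (Subgroup.subtype_injective _)).toEquiv).symm
      Hz := by
        rintro _ ⟨x, -, rfl⟩
        exact mem_centralizer_singleton_iff.1 x.2
      QH := Subgroup.map_mono hQH
      Hn := by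
        rintro c hc _ ⟨x, hx, rfl⟩
        exact ⟨⟨c, mem_centralizer_singleton_iff.2 hc⟩ * x * (⟨c, mem_centralizer_singleton_iff.2 hc⟩ : centralizer ({z} : Set G))⁻¹,
          hnorm.conj_mem x hx _, rfl⟩
      idx := by rw [hrel]; exact hH
      hom := by
        refine ⟨φ.comp (H.equivMapOfInjective (centralizer ({z} : Set G)).subtype (Subgroup.subtype_injective _)).symm.toMonoidHom,
          hφ.comp (H.equivMapOfInjective (centralizer ({z} : Set G)).subtype (Subgroup.subtype_injective _)).symm.surjective, fun x => ?_⟩
        obtain ⟨y, rfl⟩ := (H.equivMapOfInjective (centralizer ({z} : Set G)).subtype (Subgroup.subtype_injective _)).surjective x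
        show φ ((H.equivMapOfInjective (centralizer ({z} : Set G)).subtype (Subgroup.subtype_injective _)).symm
          (H.equivMapOfInjective (centralizer ({z} : Set G)).subtype (Subgroup.subtype_injective _) y)) = 1 ↔ _
        rw [MulEquiv.symm_apply_apply, hker]
        constructor
        · intro h
          exact ⟨y, h, rfl⟩
        · rintro ⟨w, hw, hwy⟩
          have : w = (y : centralizer ({z} : Set G)) := Subtype.ext hwy
          rwa [← this]
      core := by
        intro N hN1 hN2 hN3
        have hNC : N ≤ centralizer ({z} : Set G) := fun n hn => mem_centralizer_singleton_iff.2 (hN1 n hn)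
        have h1 : N.subgroupOf (centralizer ({z} : Set G)) ≤ pCore 2 (centralizer ({z} : Set G)) := by
          apply le_sSup
          refine ⟨⟨fun n hn g => hN2 g (mem_centralizer_singleton_iff.1 g.2) n hn⟩, ?_⟩
          exact hN3.of_injective (Subgroup.subgroupOfEquivOfLe hNC).toMonoidHom
            (Subgroup.subgroupOfEquivOfLe hNC).injective
        intro n hn
        exact ⟨⟨n, hNC hn⟩, h1 (Subgroup.mem_subgroupOf.2 hn), rfl⟩
      fus := hnwc }
  obtain ⟨h1, h2⟩ := Red.main table (fun K _ _ hK => S0000.result) hyp
  exact ⟨h2.trans hrel, field h1 F hF⟩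

end Cfsg.Agent.H349.TwE
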