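import Mathlib

/-!
# The 2-part of the order formulas in odd characteristic (helper349)
-/

set_option autoImplicit false

namespace Cfsg.Agent.H349.TwoPart

theorem eight_dvd {q : ℕ} (hq : Odd q) (k : ℕ) : 8 ∣ q ^ (2 * k) - 1 := by
  have h1 : q ^ 2 % 8 = 1 := by
    have h2 : q % 8 = 1 ∨ q % 8 = 3 ∨ q % 8 = 5 ∨ q % 8 = 7 := by
      have := Nat.odd_iff.1 hq
      omega
    rw [Nat.pow_mod]
    rcases h2 with h | h | h | h <;> rw [h]
  have h3 : q ^ (2 * k) % 8 = 1 := by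
    rw [pow_mul, Nat.pow_mod, h1, one_pow]
    norm_num
  omega

theorem sub_dvd {q d : ℕ} (hd : d ∣ q - 1) (k : ℕ) : d ∣ q ^ k - 1 :=
  hd.trans (by simpa using Nat.sub_dvd_pow_sub_pow q 1 k)

theorem add_dvd {q d : ℕ} (hd : d ∣ q + 1) {k : ℕ} (hk : Odd k) : d ∣ q ^ k + 1 :=
  hd.trans (by simpa using Odd.nat_add_dvd_pow_add_pow q 1 hk)

theorem lin32 {q d : ℕ} (hq : Odd q) (hd : d ∣ q - 1) :
    (q - 1) * (d * 2 ^ 48) ∣ ∏ i ∈ Finset.range 32, (q ^ (i + 1) - 1) := by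
  have h1 : ∏ i ∈ Finset.range 32, (if i = 0 then q - 1 else if i = 2 then d else if i % 2 = 1 then 8 else 1) =
      (q - 1) * (d * 2 ^ 48) := by
    simp only [Finset.prod_range_succ, Finset.prod_range_zero]
    norm_num
    ring
  rw [← h1]
  apply Finset.prod_dvd_prod_of_dvd
  intro i _
  split_ifs with h0 h2 h3
  · rw [h0, zero_add, pow_one]
  · exact sub_dvd hd _
  · obtain ⟨k, hk⟩ : ∃ k, i + 1 = 2 * k := ⟨(i + 1) / 2, by omega⟩
    rw [hk]
    exact eight_dvd hq k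
  · exact one_dvd _

theorem uni32 {q d : ℕ} (hq : Odd q) (hd : d ∣ q + 1) :
    (q + 1) * (d * 2 ^ 48) ∣ ∏ i ∈ Finset.range 32, (if Even i then q ^ (i + 1) + 1 else q ^ (i + 1) - 1) := by
  have h1 : ∏ i ∈ Finset.range 32, (if i = 0 then q + 1 else if i = 2 then d else if i % 2 = 1 then 8 else 1) =
      (q + 1) * (d * 2 ^ 48) := by
    simp only [Finset.prod_range_succ, Finset.prod_range_zero]
    norm_num
    ring
  rw [← h1]
  apply Finset.prod_dvd_prod_of_dvd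
  intro i _
  split_ifs with h0 h1 h2 h3 h3 h4 h4
  · rw [h0, zero_add, pow_one]
  · exfalso
    rw [h0] at h1
    exact h1 (by decide)
  · exact add_dvd hd (by rw [h2]; decide)
  · exfalso
    rw [h2] at h3
    exact h3 (by decide)
  · exfalso
    rw [Nat.even_iff] at h4
    omega
  · obtain ⟨k, hk⟩ : ∃ k, i + 1 = 2 * k := ⟨(i + 1) / 2, by omega⟩
    rw [hk]
    exact eight_dvd hq k
  · exact one_dvd _
  · exact one_dvd _

/-- linear groups -/
theorem psl {q n c : ℕ} (hq : Odd q) (hq1 : 1 < q) (hn : 32 ≤ n)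
    (h : Nat.gcd n (q - 1) * ((q - 1) * c) = ∏ i : Fin n, (q ^ n - q ^ (i : ℕ))) : 2 ^ 48 ∣ c := by
  rw [Fin.prod_univ_eq_prod_range (fun i => q ^ n - q ^ i) n, ← Finset.prod_range_reflect] at h
  have h1 : ∏ i ∈ Finset.range n, (q ^ (i + 1) - 1) ∣ ∏ j ∈ Finset.range n, (q ^ n - q ^ (n - 1 - j)) := by
    apply Finset.prod_dvd_prod_of_dvd
    intro i hi
    rw [Finset.mem_range] at hi
    refine ⟨q ^ (n - 1 - i), ?_⟩
    rw [Nat.sub_mul, one_mul, ← pow_add]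
    congr 2
    omega
  have h2 : (q - 1) * (Nat.gcd n (q - 1) * 2 ^ 48) ∣ Nat.gcd n (q - 1) * ((q - 1) * c) := by
    rw [h]
    exact ((lin32 hq (Nat.gcd_dvd_right _ _)).trans
      (Finset.prod_dvd_prod_of_subset _ _ _ (Finset.range_mono hn))).trans h1
  have h3 : 0 < (q - 1) * Nat.gcd n (q - 1) :=
    Nat.mul_pos (by omega) (Nat.gcd_pos_of_pos_right _ (by omega))
  apply Nat.dvd_of_mul_dvd_mul_left h3
  convert h2 using 1 <;> ring

/-- unitary groups -/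
theorem psu {q n c : ℕ} (hq : Odd q) (hn : 32 ≤ n)
    (h : Nat.gcd n (q + 1) * ((q + 1) * c) =
      q ^ (n * (n - 1) / 2) * ∏ i ∈ Finset.range n, (if Even i then q ^ (i + 1) + 1 else q ^ (i + 1) - 1)) :
    2 ^ 48 ∣ c := by
  have h2 : (q + 1) * (Nat.gcd n (q + 1) * 2 ^ 48) ∣ Nat.gcd n (q + 1) * ((q + 1) * c) := by
    rw [h]
    exact ((uni32 hq (Nat.gcd_dvd_right _ _)).trans
      (Finset.prod_dvd_prod_of_subset _ _ _ (Finset.range_mono hn))).trans (Dvd.intro_left _ rfl)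
  have h3 : 0 < (q + 1) * Nat.gcd n (q + 1) :=
    Nat.mul_pos (by omega) (Nat.gcd_pos_of_pos_right _ (by omega))
  apply Nat.dvd_of_mul_dvd_mul_left h3
  convert h2 using 1 <;> ring

theorem prB {q m : ℕ} (hq : Odd q) : 8 ^ m ∣ ∏ i ∈ Finset.range m, (q ^ (2 * (i + 1)) - 1) := by
  have h1 : 8 ^ m = ∏ i ∈ Finset.range m, 8 := by rw [Finset.prod_const, Finset.card_range]
  rw [h1]
  exact Finset.prod_dvd_prod_of_dvd _ _ fun i _ => eight_dvd hq _

theorem prB15 {q m : ℕ} (hq : Odd q) (hm : 15 ≤ m) : 2 ^ 45 ∣ ∏ i ∈ Finset.range m, (q ^ (2 * (i + 1)) - 1) := by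
  refine Dvd.dvd.trans ?_ (prB hq)
  rw [show (8 : ℕ) = 2 ^ 3 by norm_num, ← pow_mul]
  exact pow_dvd_pow 2 (by omega)

/-- factors at most two -/
theorem half {d c r : ℕ} (hd : d ∣ 2) (hr : 2 ^ 45 ∣ r) (h : d * c = r) : 2 ^ 44 ∣ c := by
  have h1 : 2 ^ 45 ∣ 2 * c := by
    rw [← h] at hr
    exact hr.trans (Nat.mul_dvd_mul_right hd c)
  rw [show (2 : ℕ) ^ 45 = 2 * 2 ^ 44 by norm_num] at h1
  exact Nat.dvd_of_mul_dvd_mul_left (by norm_num) h1

/-- orthogonal groups of even degree -/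
theorem orth {q m c a b e : ℕ} (hq : Odd q) (hm : 15 ≤ m) (ha : 0 < a) (hab : a ∣ b)
    (h : a * c = q ^ e * b * ∏ i ∈ Finset.range m, (q ^ (2 * (i + 1)) - 1)) : 2 ^ 45 ∣ c := by
  obtain ⟨t, rfl⟩ := hab
  have h1 : c = q ^ e * t * ∏ i ∈ Finset.range m, (q ^ (2 * (i + 1)) - 1) := by
    apply Nat.eq_of_mul_eq_mul_left ha
    rw [h]
    ring
  rw [h1]
  exact (prB15 hq hm).trans (Dvd.intro_left _ rfl)

end Cfsg.Agent.H349.TwoPart
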