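import Cfsg.Agent.LieClassical.SUBasic
import Cfsg.Agent.S0283
import Cfsg.Agent.H349.USixTab

/-!
# Modules for `U_6(2)` in characteristic two (helper349)

`finrank_ge` : a representation `ρ` of `SU_6(2)` over `F_4`, trivial on the scalars, either is trivial on the diagonal
matrices or has degree at least `20`.

`trivial_of_lt` : `PSU_6(2)` acts trivially on every elementary abelian 2-group of order less than `2^20`.
-/

set_option autoImplicit false
open Cfsg

namespace Cfsg.Agent.H349.USixMod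

open Module

variable {F : Type*} [Field F]

/-- The diagonal torus -/
def T (F : Type*) [Field F] : Subgroup (Fin 6 → Fˣ) where
  carrier := {d | ∏ i, d i = 1}
  mul_mem' {a b} ha hb := by
    show ∏ i, a i * b i = 1
    rw [Finset.prod_mul_distrib, show ∏ i, a i = 1 from ha, show ∏ i, b i = 1 from hb, one_mul]
  one_mem' := by show ∏ i, (1 : Fˣ) = 1; simp
  inv_mem' {a} ha := by
    show ∏ i, (a i)⁻¹ = 1
    rw [Finset.prod_inv_distrib, show ∏ i, a i = 1 from ha, inv_one]

theorem mem_T {d : Fin 6 → Fˣ} : d ∈ T F ↔ ∏ i, d i = 1 := Iff.rfl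

section

variable [Fintype F]

theorem cube (hF : Fintype.card F = 4) (x : Fˣ) : x ^ 3 = 1 := by
  classical
  have h := pow_card_eq_one (x := x)
  rwa [Fintype.card_units, hF] at h

theorem two_eq (hF : Fintype.card F = 4) : (2 : F) = 0 := by
  have : ((4 : ℕ) : F) = 0 := by rw [← hF]; exact FiniteField.cast_card_eq_zero F
  have h4 : (2 : F) * 2 = 0 := by
    rw [← this]; norm_num
  rcases mul_eq_zero.1 h4 with h | h <;> exact h

theorem charTwo (hF : Fintype.card F = 4) : CharP F 2 := CharTwo.of_one_ne_zero_of_two_eq_zero one_ne_zero (two_eq hF)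

/-- the torus in `SU_6(2)` -/
def tor (hF : Fintype.card F = 4) : T F →* SU 6 F 2 where
  toFun d := LieClassical.SUBasic.suDiag 2 (fun i => ((d : Fin 6 → Fˣ) i : F))
    (by
      have h := mem_T.1 d.2
      have := congrArg (Units.val) h
      rwa [Units.coe_prod] at this)
    (fun i => by
      have := congrArg Units.val (cube hF ((d : Fin 6 → Fˣ) i))
      rwa [Units.val_pow_eq_pow_val, Units.val_one] at this)
  map_one' := by
    apply Subtype.ext
    apply Subtype.ext
    simp [LieClassical.SUBasic.coe_suDiag]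
  map_mul' a b := by
    apply Subtype.ext
    apply Subtype.ext
    simp [LieClassical.SUBasic.coe_suDiag, Matrix.diagonal_mul_diagonal]

theorem coe_tor (hF : Fintype.card F = 4) (d : T F) :
    (((tor hF d : SU 6 F 2) : Matrix.SpecialLinearGroup (Fin 6) F) : Matrix (Fin 6) (Fin 6) F) =
      Matrix.diagonal (fun i => ((d : Fin 6 → Fˣ) i : F)) := rfl

/-- the permutation matrices in `SU_6(2)` -/
def per (hF : Fintype.card F = 4) (σ : Equiv.Perm (Fin 6)) : SU 6 F 2 :=
  ⟨⟨σ.permMatrix F, by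
    rw [Matrix.det_permutation]
    rcases Int.units_eq_one_or (Equiv.Perm.sign σ) with h | h <;> rw [h]
    · simp
    · have := charTwo hF
      simp [CharTwo.neg_eq]⟩, by
    refine (LieClassical.SUBasic.mem_SU_iff _).2 ?_
    intro u v
    simp only [LieClassical.SUBasic.hermForm_apply, Matrix.permMatrix_mulVec]
    exact Equiv.sum_comp σ (fun i => u i * v i ^ 2)⟩

theorem coe_per (hF : Fintype.card F = 4) (σ : Equiv.Perm (Fin 6)) :
    (((per hF σ : SU 6 F 2) : Matrix.SpecialLinearGroup (Fin 6) F) : Matrix (Fin 6) (Fin 6) F) =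
      σ.permMatrix F := rfl

/-- the torus element with permuted entries -/
def permT (σ : Equiv.Perm (Fin 6)) (d : T F) : T F :=
  ⟨fun i => (d : Fin 6 → Fˣ) (σ i), by rw [mem_T, Equiv.prod_comp σ (fun i => (d : Fin 6 → Fˣ) i)]; exact d.2⟩

theorem per_tor (hF : Fintype.card F = 4) (σ : Equiv.Perm (Fin 6)) (d : T F) :
    per hF σ * tor hF d = tor hF (permT σ d) * per hF σ := by
  apply Subtype.ext
  apply Subtype.ext
  show (σ.permMatrix F) * Matrix.diagonal _ = Matrix.diagonal _ * (σ.permMatrix F)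
  ext i j
  rw [Matrix.mul_diagonal, Matrix.diagonal_mul]
  show (σ.permMatrix F) i j * _ = ((d : Fin 6 → Fˣ) (σ i) : F) * _
  by_cases h : σ i = j
  · rw [h, mul_comm]
  · have : (σ.permMatrix F) i j = 0 := by
      rw [Equiv.Perm.permMatrix, PEquiv.toMatrix_apply]
      simp [h]
    rw [this]; simp

end

/-- the characters of the torus -/
def chi (b : Fin 6 → Fin 3) : T F →* F where
  toFun d := ∏ i, ((d : Fin 6 → Fˣ) i : F) ^ (b i : ℕ)
  map_one' := by simp
  map_mul' x y := by
    simp [mul_pow, Finset.prod_mul_distrib]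

theorem chi_apply (b : Fin 6 → Fin 3) (d : T F) : chi b d = ∏ i, ((d : Fin 6 → Fˣ) i : F) ^ (b i : ℕ) := rfl

theorem chi_permT (b : Fin 6 → Fin 3) (σ : Equiv.Perm (Fin 6)) (d : T F) :
    chi b (permT σ d) = chi (fun i => b (σ.symm i)) d := by
  rw [chi_apply, chi_apply]
  show ∏ i, ((d : Fin 6 → Fˣ) (σ i) : F) ^ (b i : ℕ) = _
  rw [← Equiv.prod_comp σ (fun i => ((d : Fin 6 → Fˣ) i : F) ^ (b (σ.symm i) : ℕ))]
  simp

variable [Fintype F]

/-- a generator of the units -/
theorem exists_omega (hF : Fintype.card F = 4) : ∃ w : Fˣ, w ≠ 1 := by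
  classical
  have h : 1 < Fintype.card Fˣ := by rw [Fintype.card_units, hF]; norm_num
  obtain ⟨a, b, hab⟩ := Fintype.one_lt_card_iff.1 h
  by_cases ha : a = 1
  · exact ⟨b, fun hb => hab (ha.trans hb.symm)⟩
  · exact ⟨a, ha⟩

/-- torus elements with two nontrivial entries -/
noncomputable def two (w : Fˣ) (i j : Fin 6) (hij : i ≠ j) : T F :=
  ⟨Function.update (Function.update 1 j w⁻¹) i w, by
    rw [mem_T, Finset.prod_update_of_mem (Finset.mem_univ _)]
    rw [Finset.prod_update_of_mem (by simp [hij.symm])]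
    simp⟩

omit [Fintype F] in
theorem chi_two (b : Fin 6 → Fin 3) (w : Fˣ) (i j : Fin 6) (hij : i ≠ j) :
    chi b (two w i j hij) = (w : F) ^ (b i : ℕ) * ((w⁻¹ : Fˣ) : F) ^ (b j : ℕ) := by
  rw [chi_apply, ← Finset.mul_prod_erase _ _ (Finset.mem_univ i),
    ← Finset.mul_prod_erase _ _ (Finset.mem_erase.2 ⟨hij.symm, Finset.mem_univ j⟩)]
  have h : ∏ x ∈ (Finset.univ.erase i).erase j, (((two w i j hij : T F) : Fin 6 → Fˣ) x : F) ^ (b x : ℕ) = 1 := by
    refine Finset.prod_eq_one fun x hx => ?_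
    rw [Finset.mem_erase, Finset.mem_erase] at hx
    simp [two, Function.update_of_ne hx.1, Function.update_of_ne hx.2.1]
  rw [h, mul_one]
  simp [two, Function.update_of_ne hij.symm]

theorem pow_val_sub (hF : Fintype.card F = 4) {w : Fˣ} (hw : w ≠ 1) {a b c d : Fin 3}
    (h : (w : F) ^ (a : ℕ) * ((w⁻¹ : Fˣ) : F) ^ (b : ℕ) = (w : F) ^ (c : ℕ) * ((w⁻¹ : Fˣ) : F) ^ (d : ℕ)) :
    a - b = c - d := by
  have h' : w ^ (a : ℕ) * w⁻¹ ^ (b : ℕ) = w ^ (c : ℕ) * w⁻¹ ^ (d : ℕ) := by
    apply Units.ext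
    simpa using h
  have h3 := cube hF w
  have hord : orderOf w = 3 := orderOf_eq_prime h3 hw
  have h1 : w ^ (((a : ℕ) : ℤ) - ((b : ℕ) : ℤ) - (((c : ℕ) : ℤ) - ((d : ℕ) : ℤ))) = 1 := by
    have e1 : w ^ (((a : ℕ) : ℤ) - ((b : ℕ) : ℤ)) = w ^ (a : ℕ) * w⁻¹ ^ (b : ℕ) := by
      rw [zpow_sub, zpow_natCast, zpow_natCast, inv_pow]
    have e2 : w ^ (((c : ℕ) : ℤ) - ((d : ℕ) : ℤ)) = w ^ (c : ℕ) * w⁻¹ ^ (d : ℕ) := by
      rw [zpow_sub, zpow_natCast, zpow_natCast, inv_pow]
    rw [zpow_sub, e1, e2, h', mul_inv_cancel]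
  rw [← orderOf_dvd_iff_zpow_eq_one, hord] at h1
  revert h1
  revert a b c d
  intro a b c d _ _ h1
  fin_cases a <;> fin_cases b <;> fin_cases c <;> fin_cases d <;> first | rfl | (exfalso; revert h1; norm_num)

omit [Fintype F] in
/-- eigenvectors with different characters are linearly independent -/
theorem eig_li {k M A ι : Type*} [Field k] [AddCommGroup M] [Module k M] [Group A] [Fintype ι]
    (ρ : A →* Module.End k M) (χ : ι → A →* k) (hχ : Function.Injective χ) (m : ι → M) (hm : ∀ i, m i ≠ 0)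
    (he : ∀ i a, ρ a (m i) = χ i a • m i) : LinearIndependent k m := by
  rw [Fintype.linearIndependent_iff]
  intro a ha i
  have hd : LinearIndependent k (fun i => (χ i : A → k)) := (linearIndependent_monoidHom A k).comp χ hχ
  obtain ⟨f, hf⟩ : ∃ f : M →ₗ[k] k, f (m i) ≠ 0 := by
    by_contra hcon
    push Not at hcon
    exact hm i ((Module.forall_dual_apply_eq_zero_iff k _).1 hcon)
  have h6 : ∑ i, (a i * f (m i)) • (χ i : A → k) = 0 := by
    funext g
    have h7 := congrArg (fun v => f (ρ g v)) ha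
    simp only [map_sum, map_smul, he, smul_eq_mul, map_zero] at h7
    rw [Finset.sum_apply, Pi.zero_apply, ← h7]
    refine Finset.sum_congr rfl fun i _ => ?_
    rw [Pi.smul_apply, smul_eq_mul]
    ring
  have h8 := Fintype.linearIndependent_iff.1 hd _ h6 i
  exact (mul_eq_zero.1 h8).resolve_right hf

variable {M : Type*} [AddCommGroup M] [Module F M]

open Classical in
/-- orthogonality -/
theorem sum_chi (hF : Fintype.card F = 4) (d : T F) : ∑ b : Fin 6 → Fin 3, chi b d = if d = 1 then 1 else 0 := by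
  have h2 := two_eq hF
  have h3 : (3 : F) = 1 := by
    have : (3 : F) = 2 + 1 := by norm_num
    rw [this, h2, zero_add]
  have h1 : ∑ b : Fin 6 → Fin 3, chi b d = ∏ i, ∑ k : Fin 3, ((d : Fin 6 → Fˣ) i : F) ^ (k : ℕ) := by
    rw [Finset.prod_univ_sum]
    simp only [Fintype.piFinset_univ, chi_apply]
  rw [h1]
  split_ifs with hd
  · subst hd
    refine Finset.prod_eq_one fun i _ => ?_
    simp [h3]
  · obtain ⟨i, hi⟩ : ∃ i, (d : Fin 6 → Fˣ) i ≠ 1 := by
      by_contra hcon
      push Not at hcon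
      exact hd (Subtype.ext (funext hcon))
    refine Finset.prod_eq_zero (Finset.mem_univ i) ?_
    set x := ((d : Fin 6 → Fˣ) i : F) with hx
    have hx1 : x - 1 ≠ 0 := by
      intro h
      apply hi
      apply Units.ext
      rw [← hx, sub_eq_zero.1 h, Units.val_one]
    have hx3 : x ^ 3 = 1 := by
      have := congrArg Units.val (cube hF ((d : Fin 6 → Fˣ) i))
      rwa [Units.val_pow_eq_pow_val, Units.val_one] at this
    have h4 : (x - 1) * ∑ k : Fin 3, x ^ (k : ℕ) = 0 := by
      rw [Fin.sum_univ_three]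
      simp only [Fin.val_zero, Fin.val_one, Fin.val_two]
      linear_combination hx3
    exact (mul_eq_zero.1 h4).resolve_left hx1

theorem exists_weight (hF : Fintype.card F = 4) (ρ : SU 6 F 2 →* Module.End F M)
    (hne : ∃ d : T F, ρ (tor hF d) ≠ 1) : ∃ b : Fin 6 → Fin 3, (∃ i j, b i ≠ b j) ∧
      ∃ m : M, m ≠ 0 ∧ ∀ d, ρ (tor hF d) m = chi b d • m := by
  classical
  let e : (Fin 6 → Fin 3) → Module.End F M := fun b => ∑ x : T F, chi b x⁻¹ • ρ (tor hF x)
  have hmul : ∀ b d, ρ (tor hF d) * e b = chi b d • e b := by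
    intro b d
    show ρ (tor hF d) * ∑ x : T F, chi b x⁻¹ • ρ (tor hF x) = chi b d • ∑ x : T F, chi b x⁻¹ • ρ (tor hF x)
    rw [Finset.mul_sum, Finset.smul_sum]
    refine Fintype.sum_equiv (Equiv.mulLeft d) _ _ fun x => ?_
    show ρ (tor hF d) * (chi b x⁻¹ • ρ (tor hF x)) = chi b d • (chi b (d * x)⁻¹ • ρ (tor hF (d * x)))
    rw [mul_smul_comm, ← map_mul, ← map_mul, smul_smul, ← map_mul, mul_inv_rev, mul_comm x⁻¹ d⁻¹,
      mul_inv_cancel_left]
  have hsum : ∑ b, e b = 1 := by
    show ∑ b, ∑ x : T F, chi b x⁻¹ • ρ (tor hF x) = 1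
    rw [Finset.sum_comm]
    have h1 : ∀ x : T F, ∑ b, chi b x⁻¹ • ρ (tor hF x) = if x = 1 then 1 else 0 := by
      intro x
      rw [← Finset.sum_smul, sum_chi hF]
      by_cases hx : x = 1
      · rw [if_pos hx, if_pos (by rw [hx, inv_one]), one_smul, hx, map_one, map_one]
      · rw [if_neg hx, if_neg (by simpa using hx), zero_smul]
    rw [Finset.sum_congr rfl fun x _ => h1 x]
    simp
  by_contra hcon
  push Not at hcon
  obtain ⟨d, hd⟩ := hne
  apply hd
  have hz : ∀ b, (∃ i j, b i ≠ b j) → e b = 0 := by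
    rintro b ⟨i, j, hij⟩
    by_contra hb
    obtain ⟨v, hv⟩ : ∃ v, e b v ≠ 0 := by
      by_contra h
      push Not at h
      exact hb (LinearMap.ext h)
    obtain ⟨d, hd⟩ := hcon b ⟨i, j, hij⟩ (e b v) hv
    apply hd
    have := LinearMap.congr_fun (hmul b d) v
    exact this
  calc ρ (tor hF d) = ρ (tor hF d) * ∑ b, e b := by rw [hsum, mul_one]
    _ = ∑ b, chi b d • e b := by rw [Finset.mul_sum]; exact Finset.sum_congr rfl fun b _ => hmul b d
    _ = ∑ b, e b := by
      refine Finset.sum_congr rfl fun b _ => ?_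
      by_cases hb : ∃ i j, b i ≠ b j
      · rw [hz b hb, smul_zero]
      · push Not at hb
        have h1 : chi b d = 1 := by
          rw [chi_apply]
          have h2 : ∀ i, ((d : Fin 6 → Fˣ) i : F) ^ (b i : ℕ) = ((d : Fin 6 → Fˣ) i : F) ^ (b 0 : ℕ) := fun i => by
            rw [hb i 0]
          rw [Finset.prod_congr rfl fun i _ => h2 i, Finset.prod_pow]
          have h3 := congrArg Units.val (mem_T.1 d.2)
          rw [Units.coe_prod, Units.val_one] at h3
          rw [h3, one_pow]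
        rw [h1, one_smul]
    _ = 1 := hsum

/-- the scalars -/
def sca (hF : Fintype.card F = 4) (w : Fˣ) : T F :=
  ⟨fun _ => w, by
    rw [mem_T, Finset.prod_const, Finset.card_univ, Fintype.card_fin]
    calc w ^ 6 = (w ^ 3) ^ 2 := by rw [← pow_mul]
      _ = 1 := by rw [cube hF, one_pow]⟩

theorem finrank_ge (hF : Fintype.card F = 4) [FiniteDimensional F M] (ρ : SU 6 F 2 →* Module.End F M)
    (hsc : ∀ w, ρ (tor hF (sca hF w)) = 1) (hne : ∃ d : T F, ρ (tor hF d) ≠ 1) : 20 ≤ finrank F M := by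
  classical
  obtain ⟨b, hb, m, hm, hbm⟩ := exists_weight hF ρ hne
  obtain ⟨w, hw⟩ := exists_omega hF
  -- the sum of `b`
  have hs : ∑ i, b i = 0 := by
    have h1 := hbm (sca hF w)
    rw [hsc, Module.End.one_apply] at h1
    have h2 : chi b (sca hF w) = 1 := by
      have h3 : (chi b (sca hF w) - 1) • m = 0 := by rw [sub_smul, one_smul, ← h1, sub_self]
      exact sub_eq_zero.1 ((smul_eq_zero.1 h3).resolve_right hm)
    have h4 : chi b (sca hF w) = (w : F) ^ (∑ i, (b i : ℕ)) := by
      rw [chi_apply]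
      exact Finset.prod_pow_eq_pow_sum Finset.univ (fun i => (b i : ℕ)) (w : F)
    rw [h4] at h2
    have h5 : w ^ (∑ i, (b i : ℕ)) = 1 := by
      apply Units.ext
      rw [Units.val_pow_eq_pow_val, h2, Units.val_one]
    rw [← orderOf_dvd_iff_pow_eq_one, orderOf_eq_prime (cube hF w) hw] at h5
    apply Fin.ext
    rw [Fin.sum_univ_six] at h5 ⊢
    simp only [Fin.val_add, Fin.val_zero]
    omega
  obtain ⟨σ, hσ⟩ := USixTab.orb b hs hb
  let χ : Fin 20 → T F →* F := fun p => chi (fun i => b (σ p i))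
  have hχ : Function.Injective χ := by
    intro p q hpq
    by_contra hne
    obtain ⟨i, hi⟩ := hσ p q hne
    apply hi
    by_cases hi0 : i = 0
    · rw [hi0, sub_self, sub_self]
    have h1 := DFunLike.congr_fun hpq (two w i 0 hi0)
    change chi (fun i => b (σ p i)) (two w i 0 hi0) = chi (fun i => b (σ q i)) (two w i 0 hi0) at h1
    rw [chi_two, chi_two] at h1
    exact pow_val_sub hF hw h1
  have hli := eig_li (ρ.comp (tor hF)) χ hχ (fun p => ρ (per hF (σ p)) m) (by
    intro p h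
    apply hm
    have h1 : ρ (per hF (σ p))⁻¹ (ρ (per hF (σ p)) m) = m := by
      rw [← Module.End.mul_apply, ← map_mul, inv_mul_cancel, map_one, Module.End.one_apply]
    rw [← h1]
    have h0 : ρ (per hF (σ p)) m = 0 := h
    rw [h0, map_zero]) (by
    intro p d
    show ρ (tor hF d) (ρ (per hF (σ p)) m) = _
    have h1 : tor hF d * per hF (σ p) = per hF (σ p) * tor hF (permT (σ p)⁻¹ d) := by
      have h2 := per_tor hF (σ p) (permT (σ p)⁻¹ d)
      have h3 : permT (σ p) (permT (σ p)⁻¹ d) = d := by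
        apply Subtype.ext
        funext i
        show (d : Fin 6 → Fˣ) ((σ p)⁻¹ ((σ p) i)) = _
        simp
      rw [h3] at h2
      exact h2.symm
    rw [← Module.End.mul_apply, ← map_mul, h1, map_mul, Module.End.mul_apply, hbm, map_smul, chi_permT]
    rfl)
  have := hli.fintype_card_le_finrank
  rwa [Fintype.card_fin] at this

theorem tor_sca_mem (hF : Fintype.card F = 4) (w : Fˣ) : tor hF (sca hF w) ∈ Subgroup.center (SU 6 F 2) := by
  rw [Subgroup.mem_center_iff]
  intro g
  apply Subtype.ext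
  apply Subtype.ext
  show ((g : Matrix.SpecialLinearGroup (Fin 6) F) : Matrix (Fin 6) (Fin 6) F) * Matrix.diagonal (fun _ => (w : F)) =
    Matrix.diagonal (fun _ => (w : F)) * ((g : Matrix.SpecialLinearGroup (Fin 6) F) : Matrix (Fin 6) (Fin 6) F)
  ext i j
  rw [Matrix.mul_diagonal, Matrix.diagonal_mul, mul_comm]

theorem tor_two_not_mem (hF : Fintype.card F = 4) {w : Fˣ} (hw : w ≠ 1) :
    tor hF (two w 0 1 (by decide)) ∉ Subgroup.center (SU 6 F 2) := by
  intro h
  rw [LieClassical.SUBasic.mem_center_SU_iff (by rw [hF]; norm_num) (by norm_num)] at h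
  obtain ⟨c, hc1, hc2, hA⟩ := h
  have h1 := congrArg (fun X : SU 6 F 2 => ((X : Matrix.SpecialLinearGroup (Fin 6) F) : Matrix (Fin 6) (Fin 6) F) 0 0) hA
  have h2 := congrArg (fun X : SU 6 F 2 => ((X : Matrix.SpecialLinearGroup (Fin 6) F) : Matrix (Fin 6) (Fin 6) F) 2 2) hA
  simp only [coe_tor, Matrix.diagonal_apply_eq] at h1 h2
  have e1 : ((two w 0 1 (by decide) : T F) : Fin 6 → Fˣ) 0 = w := by simp [two]
  have e2 : ((two w 0 1 (by decide) : T F) : Fin 6 → Fˣ) 2 = 1 := by simp [two]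
  rw [e1] at h1
  rw [e2] at h2
  have h3 : ((LieClassical.SUBasic.suScalar 2 c hc1 hc2 : Matrix.SpecialLinearGroup (Fin 6) F) :
      Matrix (Fin 6) (Fin 6) F) 0 0 = c := by
    simp [LieClassical.SUBasic.suScalar, LieClassical.SUBasic.suDiag]
  have h4 : ((LieClassical.SUBasic.suScalar 2 c hc1 hc2 : Matrix.SpecialLinearGroup (Fin 6) F) :
      Matrix (Fin 6) (Fin 6) F) 2 2 = c := by
    simp [LieClassical.SUBasic.suScalar, LieClassical.SUBasic.suDiag]
  apply hw
  apply Units.ext
  rw [h1, h3, ← h4, ← h2]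

/-- `PSU_6(2)` acts trivially on small elementary abelian 2-groups. -/
theorem trivial_of_lt (hF : Fintype.card F = 4) {V : Type*} [AddCommGroup V] [Module (ZMod 2) V] [Finite V]
    (ρ : PSU 6 F 2 →* Module.End (ZMod 2) V) (hV : Nat.card V < 2 ^ 20) (g : PSU 6 F 2) : ρ g = 1 := by
  have hp := charTwo hF
  letI : Algebra (ZMod 2) F := ZMod.algebra F 2
  set π : SU 6 F 2 →* PSU 6 F 2 := QuotientGroup.mk' _ with hπ
  let R : SU 6 F 2 →* Module.End F (V →ₗ[ZMod 2] F) :=
    { toFun := fun g =>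
        { toFun := fun f => f ∘ₗ ρ (π g⁻¹)
          map_add' := fun f f' => rfl
          map_smul' := fun c f => rfl }
      map_one' := by
        ext f v
        show f (ρ (π 1⁻¹) v) = f v
        rw [inv_one, map_one, map_one, Module.End.one_apply]
      map_mul' := fun a b => by
        ext f v
        show f (ρ (π (a * b)⁻¹) v) = f (ρ (π b⁻¹) (ρ (π a⁻¹) v))
        rw [mul_inv_rev, map_mul, map_mul, Module.End.mul_apply] }
  have hR : ∀ g f v, R g f v = f (ρ (π g⁻¹) v) := fun g f v => rfl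
  have hsc : ∀ w, R (tor hF (sca hF w)) = 1 := by
    intro w
    ext f v
    rw [hR]
    have h1 : π (tor hF (sca hF w))⁻¹ = 1 := by
      rw [map_inv, inv_eq_one]
      exact (QuotientGroup.eq_one_iff _).2 (tor_sca_mem hF w)
    rw [h1, map_one]
    rfl
  have hfr : finrank F (V →ₗ[ZMod 2] F) = finrank (ZMod 2) V := by
    rw [Module.finrank_linearMap, finrank_self, mul_one]
  have hcard : Nat.card V = 2 ^ finrank (ZMod 2) V := by
    rw [Module.natCard_eq_pow_finrank (K := ZMod 2), Nat.card_zmod]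
  have htriv : ∀ d, R (tor hF d) = 1 := by
    by_contra hcon
    push Not at hcon
    have h1 := finrank_ge hF R hsc hcon
    rw [hfr] at h1
    rw [hcard] at hV
    exact absurd hV (not_lt.2 (Nat.pow_le_pow_right (by norm_num) h1))
  have htriv' : ∀ d, ρ (π (tor hF d)) = 1 := by
    intro d
    have h1 := htriv d⁻¹
    ext v
    by_contra hne
    have hne' : ρ (π (tor hF d)) v - v ≠ 0 := sub_ne_zero.2 hne
    obtain ⟨f, hf⟩ : ∃ f : V →ₗ[ZMod 2] ZMod 2, f (ρ (π (tor hF d)) v - v) ≠ 0 := by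
      by_contra hcon
      push Not at hcon
      exact hne' ((Module.forall_dual_apply_eq_zero_iff (ZMod 2) _).1 hcon)
    have h2 := LinearMap.congr_fun (LinearMap.congr_fun h1 ((Algebra.linearMap (ZMod 2) F) ∘ₗ f)) v
    rw [hR] at h2
    simp only [map_inv, inv_inv, LinearMap.comp_apply, Algebra.linearMap_apply, Module.End.one_apply] at h2
    have h3 := (algebraMap (ZMod 2) F).injective h2
    apply hf
    rw [map_sub, h3, sub_self]
  have hs : IsSimpleGroup (PSU 6 F 2) := Cfsg.Agent.S0283.result (q := 2) (by rw [hF]; norm_num) 6 (by norm_num)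
    (by norm_num)
  rcases hs.eq_bot_or_eq_top_of_normal ρ.ker inferInstance with h | h
  · exfalso
    obtain ⟨w, hw⟩ := exists_omega hF
    apply tor_two_not_mem hF hw
    have h1 : π (tor hF (two w 0 1 (by decide))) ∈ ρ.ker := htriv' _
    rw [h, Subgroup.mem_bot] at h1
    exact (QuotientGroup.eq_one_iff _).1 h1
  · have h1 : g ∈ ρ.ker := by rw [h]; trivial
    exact h1

end Cfsg.Agent.H349.USixMod
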